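import Mathlib
import Cfsg.Agent.H553.OddInd
import Cfsg.Agent.Walter.Local
import Cfsg.Agent.Lib.SolvableMinNormal
import Cfsg.Agent.S0117
import Cfsg.Agent.S0205

/-!
# Hall subgroups of odd order in a minimal counterexample: two criteria (helper171)

* `Inv1 s t G` : no nontrivial `t`-subgroup is normalised by a Sylow `s`-subgroup;
* `conj_of_inv1` : `s ∈ π` and `Inv1 s t G` for the other `t ∈ π` : the Hall `π`-subgroups are conjugate (`ZJ`);
* `conj_of_dom` : `r ∈ π` does not divide the orders of `GL_n(p)`, `p ∈ π`, `p ^ n ∣ |G|`: the same.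
-/

set_option autoImplicit false

namespace Cfsg.Agent.H171.Odd

open Subgroup Cfsg Cfsg.Agent.H553.OddHall
open scoped Pointwise

universe u

variable {G : Type u} [Group G]

/-- no nontrivial `t`-subgroup of `G` is normalised by a Sylow `s`-subgroup -/
def Inv1 (s t : ℕ) (G : Type*) [Group G] : Prop :=
  ∀ S : Subgroup G, IsPGroup s S → ¬ s ∣ S.index → ∀ R : Subgroup G, IsPGroup t R → S ≤ normalizer (R : Set G) → R = ⊥

theorem ft (Y : Subgroup G) [Finite G] (h : ¬ 2 ∣ Nat.card Y) : Group.IsSolvable Y :=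
  S0205.result (Nat.odd_iff.2 (by omega))

theorem not_two_dvd [Finite G] {π : Set ℕ} (h2 : 2 ∉ π) {H : Subgroup G} (hH : IsPiHall π H) : ¬ 2 ∣ Nat.card H :=
  fun h => h2 (hH.1 2 Nat.prime_two h)

/-- the Sylow subgroups of a Hall subgroup, in the ambient group -/
theorem not_dvd_index_map [Finite G] {π : Set ℕ} {s : ℕ} [hs : Fact s.Prime] (hsπ : s ∈ π) {H : Subgroup G}
    (hH : IsPiHall π H) (P : Sylow s H) : ¬ s ∣ ((P : Subgroup H).map H.subtype).index := by
  rw [index_map_subtype]
  intro h
  rcases hs.out.dvd_mul.1 h with h | h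
  · exact P.not_dvd_index h
  · exact hH.2 s hs.out hsπ h

theorem core_eq_bot [Finite G] {π : Set ℕ} (h2 : 2 ∉ π) {s : ℕ} [hs : Fact s.Prime] (hsπ : s ∈ π)
    (hO : ∀ t : ℕ, t.Prime → t ≠ s → t ∈ π → t ∣ Nat.card G → Inv1 s t G) {H : Subgroup G} (hH : IsPiHall π H) :
    pPrimeCore s H = ⊥ := by
  by_contra hne
  have hsol := ft H (not_two_dvd h2 hH)
  have hnt : Nontrivial ↥(pPrimeCore s H) := by
    rw [← not_subsingleton_iff_nontrivial]
    intro h
    exact hne (Subgroup.eq_bot_of_subsingleton _)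
  have hsolN : Group.IsSolvable ↥(pPrimeCore s H) := inferInstance
  obtain ⟨t, ht, N, hNc, -, hNp, hN⟩ := Lib.SolvableMinNormal.exists_characteristic_pgroup (G := ↥(pPrimeCore s H))
  have hft : Fact t.Prime := ⟨ht⟩
  have hcop := Lib.Cores.pPrimeCore_coprime (G := H) s
  have hMn : (N.map (pPrimeCore s H).subtype).Normal := by
    have := hNc
    have h3 : (pPrimeCore s H).Normal := Lib.Cores.pPrimeCore_normal s
    exact ConjAct.normal_of_characteristic_of_normal
  set R : Subgroup H := N.map (pPrimeCore s H).subtype with hR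
  have hRp : IsPGroup t R := hNp.map _
  have hRne : R ≠ ⊥ := by
    intro h
    rw [hR, map_eq_bot_iff_of_injective _ (subtype_injective _)] at h
    exact hN h
  have htR : t ∣ Nat.card R := by
    obtain ⟨k, hk⟩ := hRp.exists_card_eq
    rw [hk]
    rcases Nat.eq_zero_or_pos k with h | h
    · exfalso
      rw [h, pow_zero] at hk
      exact hRne (card_eq_one.1 hk)
    · exact dvd_pow_self t (by omega)
  have hRle : Nat.card R ∣ Nat.card ↥(pPrimeCore s H) := by
    apply card_dvd_of_le
    rw [hR]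
    exact map_subtype_le _
  have hts : t ≠ s := by
    rintro rfl
    have h3 : t ∣ Nat.card ↥(pPrimeCore t H) := htR.trans hRle
    have h4 := Nat.Coprime.eq_one_of_dvd hcop.symm h3
    exact ht.one_lt.ne' h4
  have htH : t ∣ Nat.card H := htR.trans (card_subgroup_dvd_card R)
  have h5 := hO t ht hts (hH.1 t ht htH) (htH.trans (card_subgroup_dvd_card H))
  obtain ⟨P⟩ : Nonempty (Sylow s H) := inferInstance
  have h6 := h5 ((P : Subgroup H).map H.subtype) (P.isPGroup'.map _) (not_dvd_index_map hsπ hH P) (R.map H.subtype)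
    (hRp.map _) ?_
  · rw [map_eq_bot_iff_of_injective _ (subtype_injective _)] at h6
    exact hRne h6
  · refine (map_subtype_le _).trans ?_
    have h7 := le_normalizer_map (H := R) H.subtype
    rw [normalizer_eq_top_iff.2 hMn] at h7
    have h8 : (⊤ : Subgroup H).map H.subtype = H := by rw [← MonoidHom.range_eq_map, range_subtype]
    rw [h8] at h7
    exact h7

/-- **The Hall `π`-subgroups are conjugate if no nontrivial `t`-subgroup, `t ∈ π`, is normalised by a Sylow
`s`-subgroup.** -/
theorem conj_of_inv1 [Finite G] [IsSimpleGroup G] (hna : ¬ IsMulCommutative G) (hind : OddInd G) {π : Set ℕ}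
    (h2 : 2 ∉ π) {s : ℕ} (hs : s.Prime) (hsπ : s ∈ π) (hsG : s ∣ Nat.card G)
    (hO : ∀ t : ℕ, t.Prime → t ≠ s → t ∈ π → t ∣ Nat.card G → Inv1 s t G) {H K : Subgroup G} (hH : IsPiHall π H)
    (hK : IsPiHall π K) : ∃ g : G, K = MulAut.conj g • H := by
  have hfs : Fact s.Prime := ⟨hs⟩
  have hft : ∀ Y : Subgroup G, ¬ 2 ∣ Nat.card Y → Group.IsSolvable Y := fun Y h => ft Y h
  have key : ∀ X : Subgroup G, IsPiHall π X → ∃ P : Sylow s G, (P : Subgroup G) ≤ X ∧
      X ≤ normalizer (centerThompsonOf s (P : Subgroup G) : Set G) := by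
    intro X hX
    obtain ⟨P⟩ : Nonempty (Sylow s X) := inferInstance
    have h1 := Walter.Local.le_normalizer_ZJ hft (not_two_dvd h2 hX) (core_eq_bot h2 hsπ hO hX) P
    have h3 : IsPGroup s ((P : Subgroup X).map X.subtype) := P.isPGroup'.map _
    refine ⟨h3.toSylow (not_dvd_index_map hsπ hX P), ?_, ?_⟩
    · rw [IsPGroup.toSylow_coe]
      exact map_subtype_le _
    · rw [IsPGroup.toSylow_coe]
      exact h1
  obtain ⟨P, hPH, hPn⟩ := key H hH
  obtain ⟨Q, hQK, hQn⟩ := key K hK
  obtain ⟨g, hg⟩ := MulAction.exists_smul_eq G P Q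
  have hg' : (Q : Subgroup G) = (P : Subgroup G).map (MulAut.conj g).toMonoidHom := by
    rw [← hg]; rfl
  set W := centerThompsonOf s (Q : Subgroup G) with hW
  have hWne : W ≠ ⊥ := by
    apply S0117.centerThompsonOf_ne_bot Q.isPGroup'
    intro h
    have h3 := Q.card_mul_index
    rw [h, card_bot, one_mul] at h3
    exact Q.not_dvd_index (h ▸ (by rw [h3]; exact hsG))
  have hWQ : W ≤ Q := by
    refine inf_le_left.trans ?_
    exact map_subtype_le _
  have hN : normalizer (W : Set G) ≠ ⊤ := by
    intro h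
    have hWn : W.Normal := normalizer_eq_top_iff.1 h
    rcases IsSimpleGroup.eq_bot_or_eq_top_of_normal W hWn with h3 | h3
    · exact hWne h3
    · have hQt : (Q : Subgroup G) = ⊤ := by rw [eq_top_iff, ← h3]; exact hWQ
      have hp : IsPGroup s G := by
        have := Q.isPGroup'
        rw [hQt] at this
        exact this.of_equiv topEquiv
      have hnil : Group.IsNilpotent G := hp.isNilpotent
      have hZ := hp.center_nontrivial
      rcases IsSimpleGroup.eq_bot_or_eq_top_of_normal (center G) inferInstance with h4 | h4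
      · exact (nontrivial_iff_ne_bot _).1 hZ h4
      · exact hna ⟨⟨fun a b => (mem_center_iff.1 (h4 ▸ mem_top a) b).symm⟩⟩
  have hH' : IsPiHall π (MulAut.conj g • H) := by
    refine ⟨?_, ?_⟩
    · intro p hp hd
      refine hH.1 p hp ?_
      rwa [← Nat.card_congr (Subgroup.equivSMul (MulAut.conj g) H).toEquiv] at hd
    · intro p hp hpπ hd
      refine hH.2 p hp hpπ ?_
      have : (MulAut.conj g • H).index = H.index := by
        show (H.map (MulAut.conj g).toMonoidHom).index = H.index
        exact index_map_of_bijective (MulAut.conj g).bijective H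
      rwa [this] at hd
  have hle : MulAut.conj g • H ≤ normalizer (W : Set G) := by
    rw [hW, hg', PLocal.ZJElem.centerThompsonOf_map s (MulAut.conj g).injective]
    have h5 : (MulAut.conj g • H) = H.map (MulAut.conj g).toMonoidHom := rfl
    rw [h5]
    refine (map_mono hPn).trans ?_
    exact le_normalizer_map _
  obtain ⟨k, hk⟩ := hind.conj h2 hN hH' hK hle hQn
  exact ⟨k * g, by rw [hk, map_mul, mul_smul]⟩

end Cfsg.Agent.H171.Odd
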