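import Mathlib
import Cfsg.Agent.H171.Odd.Base
import Cfsg.Agent.Transfer.PGroupNormal

/-!
# Criteria for `Inv1 s t G` (helper171)

`S` a Sylow `s`-subgroup of order `s ^ a`, `R` a nontrivial `t`-subgroup normalised by `S`, `t ^ (b + 1) ∤ |G|`.

* `exists_small_orbit`, `exists_cent` : some `y ∈ R` of order `t` has `|S : C_S(y)| ≤ s ^ w` if `s ^ (w + 1)` divides no
  `t ^ k - 1`, `1 ≤ k ≤ b`;
* `inv1_of_cent` : `s ^ (a - w)` divides no `|C(y)|`, `y` of order `t`;
* `inv1_of_elt` : `w = 0` and one `s`-element `x ≠ 1` with `t ∤ |C(x)|`;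
* `inv1_of_sub` : a subgroup `R₀` of order `s ^ (w + 1)` with `t ∤ |C(x)|` for `x ∈ R₀`, `x ≠ 1`;
* `card_dvd_kernel` : `|S| ∣ |C_S(R)| s ^ W`;
* `inv1_of_nc` : `a > W` and `s ^ a t` divides no `|C(x)|`, `x` of order `s`.
-/

set_option autoImplicit false

namespace Cfsg.Agent.H171.Odd

open Subgroup Cfsg

universe u

variable {G : Type u} [Group G]

/-- the action of a subgroup by conjugation on the difference of two invariant subgroups -/
@[reducible] def actDiff (S R R1 : Subgroup G) (hR : S ≤ normalizer (R : Set G)) (hR1 : S ≤ normalizer (R1 : Set G)) :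
    MulAction S {y : G // y ∈ R ∧ y ∉ R1} where
  smul g y := ⟨(g : G) * y * (g : G)⁻¹, (mem_normalizer_iff.1 (hR g.2) y).1 y.2.1,
    fun h => y.2.2 ((mem_normalizer_iff.1 (hR1 g.2) y).2 h)⟩
  one_smul y := Subtype.ext (by show ((1 : S) : G) * y * ((1 : S) : G)⁻¹ = y; simp)
  mul_smul g h y := Subtype.ext (by
    show ((g * h : S) : G) * y * ((g * h : S) : G)⁻¹ = (g : G) * ((h : G) * y * (h : G)⁻¹) * (g : G)⁻¹
    rw [coe_mul]; group)

theorem exists_small_orbit [Finite G] {s w : ℕ} [hs : Fact s.Prime] {S R R1 : Subgroup G} (hS : IsPGroup s S)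
    (hR : S ≤ normalizer (R : Set G)) (hR1 : S ≤ normalizer (R1 : Set G)) (hle : R1 ≤ R)
    (h : ¬ s ^ (w + 1) ∣ Nat.card R - Nat.card R1) :
    ∃ y ∈ R, y ∉ R1 ∧ Nat.card S ∣ Nat.card ↥(S ⊓ centralizer ({y} : Set G)) * s ^ w := by
  classical
  let _ := actDiff S R R1 hR hR1
  have hcard : Nat.card {y : G // y ∈ R ∧ y ∉ R1} = Nat.card R - Nat.card R1 := by
    have h1 : Nat.card {y : G // y ∈ R ∧ y ∉ R1} = ((R : Set G) \ (R1 : Set G)).ncard := by
      rw [← Nat.card_coe_set_eq]; rfl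
    rw [h1, Set.ncard_sdiff (by exact hle) (Set.toFinite _), ← Nat.card_coe_set_eq, ← Nat.card_coe_set_eq]
    rfl
  by_contra hno
  push Not at hno
  apply h
  rw [← hcard]
  have hfin : Fintype {y : G // y ∈ R ∧ y ∉ R1} := Fintype.ofFinite _
  rw [Nat.card_eq_fintype_card]
  have horb : ∀ y : {y : G // y ∈ R ∧ y ∉ R1}, s ^ (w + 1) ∣ Nat.card (MulAction.orbit S y) := by
    intro y
    have h1 := (MulAction.stabilizer S y).card_mul_index
    rw [MulAction.index_stabilizer, ← Nat.card_coe_set_eq] at h1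
    obtain ⟨n, hn⟩ := hS.exists_card_eq
    have h3 : Nat.card (MulAction.orbit S y) ∣ s ^ n := by
      rw [← hn]
      exact Dvd.intro_left _ h1
    obtain ⟨j, hj, hj'⟩ := (Nat.dvd_prime_pow hs.out).1 h3
    rw [hj']
    apply pow_dvd_pow
    by_contra hlt
    apply hno y.1 y.2.1 y.2.2
    have h5 : Nat.card ↥(S ⊓ centralizer ({(y : G)} : Set G)) = Nat.card (MulAction.stabilizer S y) := by
      have h6 : (MulAction.stabilizer S y).map S.subtype = S ⊓ centralizer ({(y : G)} : Set G) := by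
        ext g
        simp only [mem_map, MulAction.mem_stabilizer_iff, mem_inf, mem_centralizer_singleton_iff]
        constructor
        · rintro ⟨g, hg, rfl⟩
          refine ⟨g.2, ?_⟩
          have h7 : (g : G) * y * (g : G)⁻¹ = y := congrArg Subtype.val hg
          exact mul_inv_eq_iff_eq_mul.1 h7
        · rintro ⟨hgS, hg⟩
          refine ⟨⟨g, hgS⟩, Subtype.ext ?_, rfl⟩
          show g * (y : G) * g⁻¹ = y
          rw [hg, mul_inv_cancel_right]
      rw [← h6]
      exact Nat.card_congr ((MulAction.stabilizer S y).equivMapOfInjective _ S.subtype_injective).symm.toEquiv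
    rw [h5]
    have h8 : Nat.card S = Nat.card (MulAction.stabilizer S y) * s ^ j := by
      rw [← hj', h1]
    rw [h8]
    exact Nat.mul_dvd_mul_left _ (pow_dvd_pow s (by omega))
  have hsum := MulAction.selfEquivSigmaOrbits S {y : G // y ∈ R ∧ y ∉ R1}
  rw [← Nat.card_eq_fintype_card, Nat.card_congr hsum]
  have : Fintype (Quotient (MulAction.orbitRel S {y : G // y ∈ R ∧ y ∉ R1})) := Fintype.ofFinite _
  rw [Nat.card_sigma]
  exact Finset.dvd_sum fun q _ => horb _

theorem not_dvd_diff {s t w k j : ℕ} (hs : s.Prime) (ht : t.Prime) (hst : s ≠ t) (hjk : j ≤ k)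
    (h : ¬ s ^ (w + 1) ∣ t ^ (k - j) - 1) : ¬ s ^ (w + 1) ∣ t ^ k - t ^ j := by
  intro hd
  apply h
  have h1 : t ^ k - t ^ j = t ^ j * (t ^ (k - j) - 1) := by
    rw [Nat.mul_sub, mul_one, ← pow_add, Nat.add_sub_cancel' hjk]
  rw [h1] at hd
  exact (Nat.Coprime.pow _ _ ((Nat.coprime_primes hs ht).2 hst)).dvd_of_dvd_mul_left hd

/-- the order of a subgroup which is a `t`-group -/
theorem card_pgroup [Finite G] {t b : ℕ} [ht : Fact t.Prime] (hb : ¬ t ^ (b + 1) ∣ Nat.card G) {R : Subgroup G}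
    (hR : IsPGroup t R) : ∃ k, k ≤ b ∧ Nat.card R = t ^ k := by
  obtain ⟨k, hk⟩ := hR.exists_card_eq
  refine ⟨k, ?_, hk⟩
  by_contra hlt
  apply hb
  exact (pow_dvd_pow t (by omega : b + 1 ≤ k)).trans (hk ▸ card_subgroup_dvd_card R)

theorem card_sylow [Finite G] {s a : ℕ} [hs : Fact s.Prime] (ha : s ^ a ∣ Nat.card G) {S : Subgroup G}
    (hSi : ¬ s ∣ S.index) : s ^ a ∣ Nat.card S := by
  rw [← S.card_mul_index] at ha
  exact (Nat.Coprime.pow_left _ ((Nat.Prime.coprime_iff_not_dvd hs.out).2 hSi)).dvd_of_dvd_mul_right ha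

/-- an element of order `t` of `R` with a large centralizer in `S` -/
theorem exists_cent [Finite G] {s t b w : ℕ} [hs : Fact s.Prime] [ht : Fact t.Prime]
    (hb : ¬ t ^ (b + 1) ∣ Nat.card G) (hw : ∀ k, 1 ≤ k → k ≤ b → ¬ s ^ (w + 1) ∣ t ^ k - 1)
    {S : Subgroup G} (hS : IsPGroup s S) {R : Subgroup G} (hR : IsPGroup t R) (hn : S ≤ normalizer (R : Set G))
    (hne : R ≠ ⊥) : ∃ y ∈ R, orderOf y = t ∧ Nat.card S ∣ Nat.card ↥(S ⊓ centralizer ({y} : Set G)) * s ^ w := by
  obtain ⟨k, hk, hc⟩ := card_pgroup hb hR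
  have hk1 : 1 ≤ k := by
    rcases Nat.eq_zero_or_pos k with h | h
    · exfalso
      rw [h, pow_zero] at hc
      exact hne (card_eq_one.1 hc)
    · exact h
  have h1 : ¬ s ^ (w + 1) ∣ Nat.card R - Nat.card (⊥ : Subgroup G) := by
    rw [hc, card_bot]
    exact hw k hk1 hk
  obtain ⟨y, hyR, hy1, hy⟩ := exists_small_orbit hS hn (by rw [normalizer_eq_top_iff.2 inferInstance]; exact le_top)
    bot_le h1
  have hy1 : y ≠ 1 := fun h => hy1 (h ▸ one_mem _)
  obtain ⟨n, hn'⟩ := hR ⟨y, hyR⟩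
  have hyn : y ^ t ^ n = 1 := by simpa using congrArg Subtype.val hn'
  obtain ⟨m, -, hm⟩ := (Nat.dvd_prime_pow ht.out).1 (orderOf_dvd_of_pow_eq_one hyn)
  have hm0 : m ≠ 0 := by
    rintro rfl
    rw [pow_zero] at hm
    exact hy1 (orderOf_eq_one_iff.1 hm)
  refine ⟨y ^ t ^ (m - 1), R.pow_mem hyR _, ?_, hy.trans (Nat.mul_dvd_mul_right ?_ _)⟩
  · rw [orderOf_pow' y (pow_ne_zero _ ht.out.ne_zero), hm, Nat.gcd_eq_right (pow_dvd_pow t (by omega)),
      Nat.pow_div (by omega) ht.out.pos, show m - (m - 1) = 1 by omega, pow_one]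
  · apply card_dvd_of_le
    refine inf_le_inf le_rfl fun g hg => ?_
    rw [mem_centralizer_singleton_iff] at hg ⊢
    exact (show Commute g y from hg).pow_right _

theorem inv1_of_cent [Finite G] {s t a b w : ℕ} (hs : s.Prime) (ht : t.Prime)
    (ha : s ^ (a + w) ∣ Nat.card G)
    (hb : ¬ t ^ (b + 1) ∣ Nat.card G) (hw : ∀ k, 1 ≤ k → k ≤ b → ¬ s ^ (w + 1) ∣ t ^ k - 1)
    (h : ∀ y : G, orderOf y = t → ¬ s ^ a ∣ Nat.card (centralizer ({y} : Set G))) : Inv1 s t G := by
  have hfs : Fact s.Prime := ⟨hs⟩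
  have hft : Fact t.Prime := ⟨ht⟩
  intro S hS hSi R hR hn
  by_contra hne
  obtain ⟨y, -, hy, hd⟩ := exists_cent hb hw hS hR hn hne
  apply h y hy
  have h1 := (card_sylow ha hSi).trans hd
  rw [pow_add] at h1
  exact (Nat.dvd_of_mul_dvd_mul_right (pow_pos hs.pos w) h1).trans (card_dvd_of_le inf_le_right)

/-- a subgroup `R₀` of order larger than `s ^ w` with `t ∤ |C(x)|` for its nonidentity elements -/
theorem inv1_of_sub [Finite G] {s t b w : ℕ} (hs : s.Prime) (ht : t.Prime)
    (hb : ¬ t ^ (b + 1) ∣ Nat.card G) (hw : ∀ k, 1 ≤ k → k ≤ b → ¬ s ^ (w + 1) ∣ t ^ k - 1)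
    {R0 : Subgroup G} (hR0 : IsPGroup s R0) (hcard : s ^ w < Nat.card R0)
    (h : ∀ x ∈ R0, x ≠ 1 → ¬ t ∣ Nat.card (centralizer ({x} : Set G))) : Inv1 s t G := by
  have hfs : Fact s.Prime := ⟨hs⟩
  have hft : Fact t.Prime := ⟨ht⟩
  intro S hS hSi R hR hn
  by_contra hne
  obtain ⟨Q, hQ⟩ := hR0.exists_le_sylow
  obtain ⟨g, hg⟩ := MulAction.exists_smul_eq G Q (hS.toSylow hSi)
  have hSQ : S = (Q : Subgroup G).map (MulAut.conj g).toMonoidHom := by
    rw [← IsPGroup.toSylow_coe hS hSi, ← hg]; rfl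
  obtain ⟨y, -, hy, hd⟩ := exists_cent hb hw hS hR hn hne
  set K := S ⊓ centralizer ({y} : Set G) with hK
  set R1 : Subgroup G := R0.map (MulAut.conj g).toMonoidHom with hR1
  have hR1S : R1 ≤ S := by rw [hSQ, hR1]; exact map_mono hQ
  have hcR1 : Nat.card R1 = Nat.card R0 :=
    Nat.card_congr (R0.equivMapOfInjective _ (MulAut.conj g).injective).symm.toEquiv
  -- `R1 ⊓ K ≠ ⊥`
  have hne' : R1 ⊓ K ≠ ⊥ := by
    intro hbot
    have h1 : Nat.card R1 * Nat.card K ≤ Nat.card S := by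
      have hinj : Function.Injective (fun x : R1 × K => (⟨(x.1 : G) * (x.2 : G),
          S.mul_mem (hR1S x.1.2) (inf_le_left (a := S) x.2.2)⟩ : S)) := by
        rintro ⟨a, b⟩ ⟨c, d⟩ hab
        have h3 : (a : G) * b = c * d := congrArg Subtype.val hab
        have h4 : (c : G)⁻¹ * a = d * (b : G)⁻¹ := by
          rw [inv_mul_eq_iff_eq_mul, ← mul_assoc, ← h3, mul_inv_cancel_right]
        have h5 : (c : G)⁻¹ * a ∈ R1 ⊓ K := ⟨R1.mul_mem (R1.inv_mem c.2) a.2, by
          rw [h4]; exact K.mul_mem d.2 (K.inv_mem b.2)⟩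
        rw [hbot, mem_bot] at h5
        have h6 : (a : G) = c := (inv_mul_eq_one.1 h5).symm
        have h7 : (b : G) = d := by rw [h6] at h3; exact mul_left_cancel h3
        exact Prod.ext (Subtype.ext h6) (Subtype.ext h7)
      have := Nat.card_le_card_of_injective _ hinj
      rwa [Nat.card_prod] at this
    have h3 : Nat.card S ≤ Nat.card K * s ^ w := Nat.le_of_dvd (Nat.mul_pos Nat.card_pos (pow_pos hs.pos w)) hd
    have h4 : 0 < Nat.card K := Nat.card_pos
    have h5 : Nat.card R1 * Nat.card K ≤ s ^ w * Nat.card K := by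
      rw [mul_comm (s ^ w)]
      exact h1.trans h3
    have h6 := Nat.le_of_mul_le_mul_right h5 h4
    rw [hcR1] at h6
    omega
  obtain ⟨x, hx1⟩ := (Subgroup.ne_bot_iff_exists_ne_one).1 hne'
  have hx1 : (x : G) ≠ 1 := by simpa using hx1
  obtain ⟨x0, hx0, hx0'⟩ := (x.2.1 : (x : G) ∈ R1)
  have hx0' : g * x0 * g⁻¹ = x := by simpa using hx0'
  apply h x0 hx0
  · rintro rfl
    apply hx1
    rw [← hx0', mul_one, mul_inv_cancel]
  · have hxy : (x : G) * y = y * x := mem_centralizer_singleton_iff.1 x.2.2.2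
    have h8 : g⁻¹ * y * g ∈ centralizer ({x0} : Set G) := by
      rw [mem_centralizer_singleton_iff]
      rw [← hx0'] at hxy
      calc g⁻¹ * y * g * x0 = g⁻¹ * (y * (g * x0 * g⁻¹)) * g := by group
        _ = g⁻¹ * ((g * x0 * g⁻¹) * y) * g := by rw [hxy]
        _ = x0 * (g⁻¹ * y * g) := by group
    have h9 : orderOf (g⁻¹ * y * g) = t := by
      have := (orderOf_injective (MulAut.conj g⁻¹).toMonoidHom (MulAut.conj g⁻¹).injective y)
      rw [← hy, ← this]
      simp
    rw [← h9, ← Subgroup.orderOf_mk _ h8]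
    exact orderOf_dvd_natCard _

/-- `s` does not divide `t ^ k - 1`, `k ≤ b`, and one `s`-element `x` has `t ∤ |C(x)|` -/
theorem inv1_of_elt [Finite G] {s t b : ℕ} (hs : s.Prime) (ht : t.Prime)
    (hb : ¬ t ^ (b + 1) ∣ Nat.card G) (hw : ∀ k, 1 ≤ k → k ≤ b → ¬ s ∣ t ^ k - 1)
    {x : G} (hx : orderOf x = s) (h : ¬ t ∣ Nat.card (centralizer ({x} : Set G))) : Inv1 s t G := by
  have hfs : Fact s.Prime := ⟨hs⟩
  have hcz : Nat.card (zpowers x) = s := by rw [Nat.card_zpowers, hx]
  refine inv1_of_sub hs ht (w := 0) hb (by simpa using hw) (R0 := zpowers x)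
    (IsPGroup.of_card (n := 1) (by rw [hcz, pow_one])) (by rw [pow_zero, hcz]; exact hs.one_lt) ?_
  intro y hy hy1 hd
  apply h
  refine hd.trans (card_dvd_of_le ?_)
  intro g hg
  rw [mem_centralizer_singleton_iff] at hg ⊢
  have hyx : zpowers y = zpowers x := by
    apply eq_of_le_of_card_ge ((zpowers_le).2 hy)
    rw [hcz, Nat.card_zpowers]
    have h1 : orderOf y ∣ s := by
      rw [← hx]
      exact orderOf_dvd_of_mem_zpowers hy
    rcases (Nat.dvd_prime hs).1 h1 with h2 | h2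
    · exact absurd (orderOf_eq_one_iff.1 h2) hy1
    · exact h2.ge
  obtain ⟨n, hn⟩ := mem_zpowers_iff.1 (show x ∈ zpowers y by rw [hyx]; exact mem_zpowers x)
  rw [← hn]
  exact (show Commute g y from hg).zpow_right n

/-- `|S|` divides `|C_S(R)| s ^ W` -/
theorem card_dvd_kernel [Finite G] {s t b : ℕ} [hs : Fact s.Prime] [ht : Fact t.Prime] (hst : s ≠ t)
    (hb : ¬ t ^ (b + 1) ∣ Nat.card G) (w : ℕ → ℕ) (hw : ∀ k, 1 ≤ k → k ≤ b → ¬ s ^ (w k + 1) ∣ t ^ k - 1)
    {R : Subgroup G} (hR : IsPGroup t R) (n : ℕ) : ∀ (S : Subgroup G), IsPGroup s S → S ≤ normalizer (R : Set G) →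
    (∀ k j, Nat.card R = t ^ k → Nat.card ↥(R ⊓ centralizer (S : Set G)) = t ^ j → k ≤ j + n) →
    Nat.card S ∣ Nat.card ↥(S ⊓ centralizer (R : Set G)) * s ^ (∑ i ∈ Finset.range n, w (i + 1)) := by
  induction n using Nat.strong_induction_on with
  | _ n ih =>
    intro S hS hn hkj
    obtain ⟨k, hk, hc⟩ := card_pgroup hb hR
    set R1 := R ⊓ centralizer (S : Set G) with hR1
    have hR1p : IsPGroup t R1 := hR.to_le inf_le_left
    obtain ⟨j, hj, hc1⟩ := card_pgroup hb hR1p
    have hkn := hkj k j hc hc1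
    have hjk : j ≤ k := by
      have h1 : t ^ j ≤ t ^ k := by
        rw [← hc, ← hc1]
        exact Nat.le_of_dvd Nat.card_pos (card_dvd_of_le inf_le_left)
      exact (Nat.pow_le_pow_iff_right ht.out.one_lt).1 h1
    rcases Nat.lt_or_ge j k with hlt | hge
    · have hnR1 : S ≤ normalizer (R1 : Set G) := by
        intro g hg
        rw [mem_normalizer_iff]
        intro y
        rw [hR1, mem_inf, mem_inf]
        have h1 := mem_normalizer_iff.1 (hn hg) y
        constructor
        · rintro ⟨hyR, hyC⟩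
          have h3 : g * y * g⁻¹ = y := by
            rw [mem_centralizer_iff] at hyC
            rw [hyC g hg, mul_inv_cancel_right]
          rw [h3]
          exact ⟨hyR, hyC⟩
        · rintro ⟨hyR, hyC⟩
          have h3 : g⁻¹ * (g * y * g⁻¹) * g = g * y * g⁻¹ := by
            rw [mem_centralizer_iff] at hyC
            have h4 := hyC g⁻¹ (S.inv_mem hg)
            rw [h4, inv_mul_cancel_right]
          have h5 : y = g * y * g⁻¹ := by
            rw [← h3]
            group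
          rw [h5]
          exact ⟨by rw [← h5]; exact h1.2 hyR, hyC⟩
      have hlt' : k - j ≤ n := by omega
      have h1 : ¬ s ^ (w (k - j) + 1) ∣ Nat.card R - Nat.card R1 := by
        rw [hc, hc1]
        exact not_dvd_diff hs.out ht.out hst hjk (hw (k - j) (by omega) (by omega))
      obtain ⟨y, hyR, hyR1, hd⟩ := exists_small_orbit hS hn hnR1 inf_le_left h1
      set S' := S ⊓ centralizer ({y} : Set G) with hS'
      have hS'p : IsPGroup s S' := hS.to_le inf_le_left
      have h3 := ih (k - j - 1) (by omega) S' hS'p (inf_le_left.trans hn) ?_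
      · have h4 : S' ⊓ centralizer (R : Set G) = S ⊓ centralizer (R : Set G) := by
          apply le_antisymm (inf_le_inf inf_le_left le_rfl)
          refine le_inf (le_inf inf_le_left ?_) inf_le_right
          refine inf_le_right.trans fun g hg => ?_
          rw [mem_centralizer_singleton_iff]
          exact (mem_centralizer_iff.1 hg y hyR).symm
        rw [h4] at h3
        refine hd.trans ((Nat.mul_dvd_mul_right h3 _).trans ?_)
        rw [mul_assoc, ← pow_add]
        apply Nat.mul_dvd_mul_left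
        apply pow_dvd_pow
        have h5 : ∑ i ∈ Finset.range (k - j - 1), w (i + 1) + w (k - j) = ∑ i ∈ Finset.range (k - j), w (i + 1) := by
          obtain ⟨m, hm⟩ : ∃ m, k - j = m + 1 := ⟨k - j - 1, by omega⟩
          rw [hm, Nat.add_sub_cancel, Finset.sum_range_succ]
        rw [h5]
        exact Finset.sum_le_sum_of_subset (Finset.range_mono hlt')
      · intro k' j' hk' hj'
        have hkk : k' = k := Nat.pow_right_injective ht.out.two_le (by show t ^ k' = t ^ k; rw [← hk', ← hc])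
        subst hkk
        -- the fixed points grow
        have h5 : R1 ≤ R ⊓ centralizer (S' : Set G) :=
          le_inf inf_le_left (inf_le_right.trans (centralizer_le inf_le_left))
        have h6 : y ∈ R ⊓ centralizer (S' : Set G) := by
          refine ⟨hyR, mem_centralizer_iff.2 fun g hg => ?_⟩
          exact mem_centralizer_singleton_iff.1 hg.2
        have h7 : Nat.card R1 < Nat.card ↥(R ⊓ centralizer (S' : Set G)) := by
          refine lt_of_le_of_ne (Nat.le_of_dvd Nat.card_pos (card_dvd_of_le h5)) fun h => hyR1 ?_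
          rw [eq_of_le_of_card_ge h5 h.ge]
          exact h6
        rw [hc1, hj'] at h7
        have h8 : j < j' := (Nat.pow_lt_pow_iff_right ht.out.one_lt).1 h7
        omega
    · have h1 : R1 = R := eq_of_le_of_card_ge inf_le_left (by
        rw [hc, hc1]; exact Nat.pow_le_pow_right ht.out.pos hge)
      have h3 : S ≤ centralizer (R : Set G) := by
        intro g hg
        rw [mem_centralizer_iff]
        intro y hy
        have h4 : y ∈ centralizer (S : Set G) := by
          have h5 : y ∈ R1 := by rw [h1]; exact hy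
          exact h5.2
        exact (mem_centralizer_iff.1 h4 g hg).symm
      rw [inf_eq_left.2 h3]
      exact Dvd.intro _ rfl

theorem inv1_of_nc [Finite G] {s t a b : ℕ} (hs : s.Prime) (ht : t.Prime) (hst : s ≠ t)
    (ha : s ^ a ∣ Nat.card G) (hb : ¬ t ^ (b + 1) ∣ Nat.card G) (w : ℕ → ℕ)
    (hw : ∀ k, 1 ≤ k → k ≤ b → ¬ s ^ (w k + 1) ∣ t ^ k - 1) (hW : ∑ i ∈ Finset.range b, w (i + 1) < a)
    (h : ∀ x : G, orderOf x = s → s ^ a ∣ Nat.card (centralizer ({x} : Set G)) →
      ¬ t ∣ Nat.card (centralizer ({x} : Set G))) : Inv1 s t G := by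
  have hfs : Fact s.Prime := ⟨hs⟩
  have hft : Fact t.Prime := ⟨ht⟩
  intro S hS hSi R hR hn
  by_contra hne
  obtain ⟨k0, hk0, hc0⟩ := card_pgroup hb hR
  have hd := card_dvd_kernel hst hb w hw hR b S hS hn (fun k j hk _ => by
    have : k = k0 := Nat.pow_right_injective ht.two_le (by show t ^ k = t ^ k0; rw [← hk, ← hc0])
    omega)
  set K := S ⊓ centralizer (R : Set G) with hK
  have hK1 : K ≠ ⊥ := by
    intro h0
    rw [h0, card_bot, one_mul] at hd
    have h1 := (card_sylow ha hSi).trans hd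
    have h3 := (Nat.pow_dvd_pow_iff_le_right hs.one_lt).1 h1
    omega
  -- a central element of `S` in `K`
  have hKn : (K.subgroupOf S).Normal := by
    refine ⟨fun x hx g => ?_⟩
    rw [mem_subgroupOf] at hx ⊢
    refine ⟨(g * x * g⁻¹).2, mem_centralizer_iff.2 fun y hy => ?_⟩
    have h1 : (g : G)⁻¹ * y * g ∈ R := by
      have := (mem_normalizer_iff.1 (hn (S.inv_mem g.2)) y).1 hy
      simpa using this
    have h3 := mem_centralizer_iff.1 hx.2 _ h1
    have h3 : (g : G)⁻¹ * y * g * x = x * ((g : G)⁻¹ * y * g) := h3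
    show y * ((g : G) * x * (g : G)⁻¹) = (g : G) * x * (g : G)⁻¹ * y
    calc y * ((g : G) * x * (g : G)⁻¹) = g * ((g : G)⁻¹ * y * g * x) * (g : G)⁻¹ := by group
      _ = g * (x * ((g : G)⁻¹ * y * g)) * (g : G)⁻¹ := by rw [h3]
      _ = (g : G) * x * (g : G)⁻¹ * y := by group
  have hKS1 : K.subgroupOf S ≠ ⊥ := by
    intro h0
    rw [subgroupOf_eq_bot, disjoint_iff, inf_eq_left.2 (show K ≤ S from inf_le_left)] at h0
    exact hK1 h0
  obtain ⟨⟨z, hzS⟩, hzK, hzC, hord⟩ := Transfer.PGroupNormal.exists_mem_inf_center_orderOf hS _ hKS1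
  rw [Subgroup.orderOf_mk] at hord
  have hSC : S ≤ centralizer ({z} : Set G) := by
    intro g hg
    rw [mem_centralizer_singleton_iff]
    have := mem_center_iff.1 hzC ⟨g, hg⟩
    exact congrArg Subtype.val this
  have hRC : R ≤ centralizer ({z} : Set G) := by
    intro y hy
    rw [mem_centralizer_singleton_iff]
    exact mem_centralizer_iff.1 (mem_subgroupOf.1 hzK).2 y hy
  refine h _ hord ((card_sylow ha hSi).trans (card_dvd_of_le hSC)) ?_
  refine dvd_trans ?_ (card_dvd_of_le hRC)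
  rw [hc0]
  apply dvd_pow_self
  rintro rfl
  rw [pow_zero] at hc0
  exact hne (card_eq_one.1 hc0)

end Cfsg.Agent.H171.Odd
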