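import Mathlib
import Cfsg.Agent.H171.Odd.Base
import Cfsg.Agent.H794.MonSec

/-!
# A dominating prime (helper171)

`Dom r n` : `r` divides no `p ^ i - 1`, `p ≠ r` prime, `p ^ i ∣ n`.

* `sylow_normal_of_dom` : in a solvable group `X` with `Dom r |X|` the Sylow `r`-subgroup is normal;
* `conj_of_dom` : Hall `π`-subgroups of odd order are conjugate if `r ∈ π` dominates them (minimal counterexample).
-/

set_option autoImplicit false

namespace Cfsg.Agent.H171.Odd

open Subgroup Cfsg Cfsg.Agent.H553.OddHall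
open scoped Pointwise

universe u

/-- `r` divides no `p ^ i - 1`, `p ≠ r` prime, `p ^ i ∣ n` -/
def Dom (r n : ℕ) : Prop := ∀ p : ℕ, p.Prime → p ≠ r → ∀ i : ℕ, 0 < i → p ^ i ∣ n → ¬ r ∣ p ^ i - 1

theorem Dom.mono {r n m : ℕ} (h : Dom r n) (hm : m ∣ n) : Dom r m :=
  fun p hp hpr i hi hd => h p hp hpr i hi (hd.trans hm)

theorem sylow_normal_of_dom {r : ℕ} [hr : Fact r.Prime] (n : ℕ) : ∀ (X : Type u) [Group X] [Finite X],
    Group.IsSolvable X → Nat.card X = n → Dom r n → ∀ R : Sylow r X, (R : Subgroup X).Normal := by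
  induction n using Nat.strong_induction_on with
  | _ n ih =>
    intro X _ _ hsol hn hD R
    by_cases hnt : Nontrivial X
    swap
    · rw [not_nontrivial_iff_subsingleton] at hnt
      exact ⟨fun a ha g => by rwa [Subsingleton.elim (g * a * g⁻¹) a]⟩
    obtain ⟨p, hp, N, hNc, -, hNp, hN⟩ := Lib.SolvableMinNormal.exists_characteristic_pgroup (G := X)
    have hfp : Fact p.Prime := ⟨hp⟩
    have hNn : N.Normal := normal_of_characteristic N
    have hlt : Nat.card (X ⧸ N) < n := by
      have h1 := N.card_mul_index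
      have h3 : Nat.card (X ⧸ N) = N.index := rfl
      rw [h3, ← hn, ← h1]
      have h4 : 1 < Nat.card N := by
        rcases Nat.lt_or_ge 1 (Nat.card N) with h | h
        · exact h
        · exact absurd (card_eq_one.mp (le_antisymm h Nat.card_pos)) hN
      have h5 : 0 < N.index := Nat.pos_of_ne_zero index_ne_zero_of_finite
      nlinarith
    have hdq : Nat.card (X ⧸ N) ∣ n := by
      rw [← hn]
      exact N.card_quotient_dvd_card
    have hq := ih _ hlt (X ⧸ N) inferInstance rfl (hD.mono hdq)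
      (R.mapSurjective (QuotientGroup.mk'_surjective N))
    rw [Sylow.coe_mapSurjective] at hq
    have hM : (((R : Subgroup X).map (QuotientGroup.mk' N)).comap (QuotientGroup.mk' N)).Normal := hq.comap _
    rw [comap_map_eq, QuotientGroup.ker_mk'] at hM
    by_cases hpr : p = r
    · subst hpr
      have hle : N ≤ R := by
        have h1 : ∃ Q : Sylow p X, N ≤ Q := hNp.exists_le_sylow
        obtain ⟨Q, hQ⟩ := h1
        obtain ⟨g, hg⟩ := MulAction.exists_smul_eq X Q R
        intro x hx
        rw [← hg]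
        have h3 : g⁻¹ * x * g ∈ N := by simpa using hNn.conj_mem x hx g⁻¹
        have h4 := hQ h3
        rw [Sylow.coe_subgroup_smul]
        exact ⟨_, h4, by simp [mul_assoc]⟩
      rwa [sup_eq_left.2 hle] at hM
    · have hcent : ∀ x ∈ (R : Subgroup X), ∀ a ∈ N, x * a * x⁻¹ = a := by
        intro x hx
        obtain ⟨m, hm⟩ := hNp.exists_card_eq
        obtain ⟨f, hf⟩ := R.isPGroup' ⟨x, hx⟩
        refine H794.MonSec.acts_trivially_pow (p := p) (q := r) (m := m) (f := f) (Ne.symm hpr) ?_ hNp
          (dvd_of_eq hm) (by simpa using congrArg Subtype.val hf) fun a ha => hNn.conj_mem a ha x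
        intro i h1 h2
        refine hD p hp hpr i h1 ?_
        rw [← hn]
        refine (pow_dvd_pow p h2).trans ?_
        rw [← hm]
        exact card_subgroup_dvd_card N
      -- `R` is the set of the `r`-elements of `R N`
      have hRN : ∀ y ∈ (R : Subgroup X) ⊔ N, (∃ f : ℕ, y ^ r ^ f = 1) → y ∈ (R : Subgroup X) := by
        intro y hy hyr
        obtain ⟨a, ha, b, hb, rfl⟩ := (mem_sup_of_normal_right).1 hy
        obtain ⟨f, hf⟩ := hyr
        have hab : Commute a b := by
          have := hcent a ha b hb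
          exact mul_inv_eq_iff_eq_mul.1 this
        obtain ⟨f', hf'⟩ := R.isPGroup' ⟨a, ha⟩
        have ha' : a ^ r ^ f' = 1 := by simpa using congrArg Subtype.val hf'
        have hb' : b ^ r ^ (f + f') = 1 := by
          have h1 : (a * b) ^ r ^ (f + f') = 1 := by rw [pow_add, pow_mul, hf, one_pow]
          rw [hab.mul_pow] at h1
          have h3 : a ^ r ^ (f + f') = 1 := by rw [add_comm, pow_add, pow_mul, ha', one_pow]
          rwa [h3, one_mul] at h1
        obtain ⟨k, hk⟩ := hNp ⟨b, hb⟩
        have hb'' : b ^ p ^ k = 1 := by simpa using congrArg Subtype.val hk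
        have hb1 : b = 1 := by
          have h1 : orderOf b ∣ r ^ (f + f') := orderOf_dvd_of_pow_eq_one hb'
          have h3 : orderOf b ∣ p ^ k := orderOf_dvd_of_pow_eq_one hb''
          have h4 : Nat.Coprime (r ^ (f + f')) (p ^ k) :=
            Nat.Coprime.pow _ _ ((Nat.coprime_primes hr.out hp).2 (Ne.symm hpr))
          exact orderOf_eq_one_iff.1 (Nat.eq_one_of_dvd_coprimes h4 h1 h3)
        rw [hb1, mul_one]
        exact ha
      refine ⟨fun x hx g => ?_⟩
      apply hRN
      · exact hM.conj_mem x (mem_sup_left hx) g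
      · obtain ⟨f, hf⟩ := R.isPGroup' ⟨x, hx⟩
        have hx' : x ^ r ^ f = 1 := by simpa using congrArg Subtype.val hf
        exact ⟨f, by rw [conj_pow, hx', mul_one, mul_inv_cancel]⟩

variable {G : Type u} [Group G]

/-- Hall subgroups of a simple group with a common nontrivial normal `r`-subgroup -/
theorem conj_of_common [Finite G] [IsSimpleGroup G] (hind : OddInd G) {π : Set ℕ} (h2 : 2 ∉ π) {W : Subgroup G}
    (hW : W ≠ ⊥) (hW' : W ≠ ⊤) {H K : Subgroup G} (hH : IsPiHall π H) (hK : IsPiHall π K)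
    (h1 : H ≤ normalizer (W : Set G)) (h3 : K ≤ normalizer (W : Set G)) : ∃ g : G, K = MulAut.conj g • H := by
  refine hind.conj h2 ?_ hH hK h1 h3
  intro h
  have hWn : W.Normal := normalizer_eq_top_iff.1 h
  rcases IsSimpleGroup.eq_bot_or_eq_top_of_normal W hWn with h3 | h3
  · exact hW h3
  · exact hW' h3

/-- a simple group which is not commutative is not a `p`-group -/
theorem sylow_ne_top [Finite G] [IsSimpleGroup G] (hna : ¬ IsMulCommutative G) {r : ℕ} [Fact r.Prime]
    {P : Subgroup G} (hP : IsPGroup r P) : P ≠ ⊤ := by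
  intro hQt
  have hp : IsPGroup r G := by
    rw [hQt] at hP
    exact hP.of_equiv topEquiv
  have hZ := hp.center_nontrivial
  rcases IsSimpleGroup.eq_bot_or_eq_top_of_normal (center G) inferInstance with h4 | h4
  · exact (nontrivial_iff_ne_bot _).1 hZ h4
  · exact hna ⟨⟨fun a b => (mem_center_iff.1 (h4 ▸ mem_top a) b).symm⟩⟩

theorem isPiHall_smul [Finite G] {π : Set ℕ} {H : Subgroup G} (hH : IsPiHall π H) (g : G) :
    IsPiHall π (MulAut.conj g • H) := by
  refine ⟨?_, ?_⟩
  · intro p hp hd
    refine hH.1 p hp ?_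
    rwa [← Nat.card_congr (Subgroup.equivSMul (MulAut.conj g) H).toEquiv] at hd
  · intro p hp hpπ hd
    refine hH.2 p hp hpπ ?_
    have : (MulAut.conj g • H).index = H.index := by
      show (H.map (MulAut.conj g).toMonoidHom).index = H.index
      exact index_map_of_bijective (MulAut.conj g).bijective H
    rwa [this] at hd

/-- **A dominating prime.** -/
theorem conj_of_dom [Finite G] [IsSimpleGroup G] (hna : ¬ IsMulCommutative G) (hind : OddInd G) {π : Set ℕ}
    (h2 : 2 ∉ π) {r : ℕ} (hr : r.Prime) (hrπ : r ∈ π) (hrG : r ∣ Nat.card G)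
    (hD : ∀ p : ℕ, p.Prime → p ≠ r → p ∈ π → ∀ i : ℕ, 0 < i → p ^ i ∣ Nat.card G → ¬ r ∣ p ^ i - 1)
    {H K : Subgroup G} (hH : IsPiHall π H) (hK : IsPiHall π K) : ∃ g : G, K = MulAut.conj g • H := by
  have hfr : Fact r.Prime := ⟨hr⟩
  have key : ∀ X : Subgroup G, IsPiHall π X → ∃ P : Sylow r G, (P : Subgroup G) ≤ X ∧
      X ≤ normalizer ((P : Subgroup G) : Set G) := by
    intro X hX
    obtain ⟨P⟩ : Nonempty (Sylow r X) := inferInstance
    have hsol := ft X (not_two_dvd h2 hX)
    have hPn := sylow_normal_of_dom _ X hsol rfl (r := r) (fun p hp hpr i hi hd => hD p hp hpr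
      (hX.1 p hp ((dvd_pow_self p hi.ne').trans hd)) i hi (hd.trans (card_subgroup_dvd_card X))) P
    have h3 : IsPGroup r ((P : Subgroup X).map X.subtype) := P.isPGroup'.map _
    refine ⟨h3.toSylow (not_dvd_index_map hrπ hX P), ?_, ?_⟩
    · rw [IsPGroup.toSylow_coe]
      exact map_subtype_le _
    · rw [IsPGroup.toSylow_coe]
      have h7 := le_normalizer_map (H := (P : Subgroup X)) X.subtype
      rw [normalizer_eq_top_iff.2 hPn] at h7
      have h8 : (⊤ : Subgroup X).map X.subtype = X := by rw [← MonoidHom.range_eq_map, range_subtype]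
      rw [h8] at h7
      exact h7
  obtain ⟨P, hPH, hPn⟩ := key H hH
  obtain ⟨Q, hQK, hQn⟩ := key K hK
  obtain ⟨g, hg⟩ := MulAction.exists_smul_eq G P Q
  have hg' : (Q : Subgroup G) = (P : Subgroup G).map (MulAut.conj g).toMonoidHom := by
    rw [← hg]; rfl
  have hQb : (Q : Subgroup G) ≠ ⊥ := by
    intro h
    have h3 := Q.card_mul_index
    rw [h, card_bot, one_mul] at h3
    exact Q.not_dvd_index (h ▸ (by rw [h3]; exact hrG))
  have hle : MulAut.conj g • H ≤ normalizer ((Q : Subgroup G) : Set G) := by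
    rw [hg']
    have h5 : (MulAut.conj g • H) = H.map (MulAut.conj g).toMonoidHom := rfl
    rw [h5]
    refine (map_mono hPn).trans ?_
    exact le_normalizer_map _
  obtain ⟨k, hk⟩ := conj_of_common hind h2 hQb (sylow_ne_top hna Q.isPGroup') (isPiHall_smul hH g) hK hle hQn
  exact ⟨k * g, by rw [hk, map_mul, mul_smul]⟩

end Cfsg.Agent.H171.Odd
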