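import Mathlib
import Cfsg.Agent.H171.Odd.Dom

/-!
# A checkable certificate for `OddC` in a minimal counterexample (helper171)

`oddC_of_cert` : for every set `σ` of odd prime divisors of `|G| = N` either some `r ∈ σ` dominates, or some `s ∈ σ` has
`Inv1 s t G` for all `t ∈ σ`, `t ≠ s`.
-/

set_option autoImplicit false

namespace Cfsg.Agent.H171.Odd

open Subgroup Cfsg Cfsg.Agent.H553.OddHall
open scoped Pointwise

universe u

/-- `r` divides no `p ^ i - 1`, `1 ≤ i ≤ a` (or `p = r`) -/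
def dm (r : ℕ) (x : ℕ × ℕ) : Bool := Nat.beq x.1 r || (List.range x.2).all fun i => !(Nat.beq ((x.1 ^ (i + 1) - 1) % r) 0)

/-- the pair `(s, t)` is in the table -/
def inT (T : List (ℕ × ℕ)) (s t : ℕ) : Bool := T.any fun x => Nat.beq x.1 s && Nat.beq x.2 t

/-- the condition for one set of primes -/
def okS (T : List (ℕ × ℕ)) (σ : List (ℕ × ℕ)) : Bool :=
  σ.isEmpty || (σ.any fun s => σ.all fun t => Nat.beq t.1 s.1 || inT T s.1 t.1) ||
    (σ.any fun r => σ.all fun p => dm r.1 p)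

/-- the certificate: `N` the order, `L` the odd primes with exponents, `T` the table -/
def okCert (N : ℕ) (L T : List (ℕ × ℕ)) : Bool :=
  Nat.beq ((2 * (L.map Prod.fst).prod) ^ 64 % N) 0 && (L.all fun x => !(Nat.beq (N % x.1 ^ (x.2 + 1)) 0) && Nat.beq (N % x.1) 0) &&
    (L.sublists.all fun σ => okS T σ)

theorem dm_spec {r : ℕ} {x : ℕ × ℕ} (h : dm r x = true) (hx : x.1 ≠ r) {i : ℕ} (hi : 0 < i) (hi' : i ≤ x.2) :
    ¬ r ∣ x.1 ^ i - 1 := by
  unfold dm at h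
  rw [Bool.or_eq_true] at h
  rcases h with h | h
  · exact absurd (Nat.eq_of_beq_eq_true h) hx
  · rw [List.all_eq_true] at h
    have h1 := h (i - 1) (List.mem_range.2 (by omega))
    rw [Nat.sub_add_cancel hi, Bool.not_eq_true', ← Bool.not_eq_true] at h1
    intro hd
    apply h1
    rw [Nat.mod_eq_zero_of_dvd hd]
    rfl

theorem inT_spec {T : List (ℕ × ℕ)} {s t : ℕ} (h : inT T s t = true) : (s, t) ∈ T := by
  unfold inT at h
  rw [List.any_eq_true] at h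
  obtain ⟨x, hx, hc⟩ := h
  rw [Bool.and_eq_true] at hc
  have h1 := Nat.eq_of_beq_eq_true hc.1
  have h2 := Nat.eq_of_beq_eq_true hc.2
  have : x = (s, t) := Prod.ext h1 h2
  rwa [← this]

theorem oddC_of_cert {G : Type u} [Group G] [Finite G] [IsSimpleGroup G] (hna : ¬ IsMulCommutative G)
    (hind : OddInd G) {N : ℕ} (hN : Nat.card G = N) {L T : List (ℕ × ℕ)} (hL : ∀ x ∈ L, x.1.Prime)
    (hT : ∀ x ∈ T, Inv1 x.1 x.2 G) (hc : okCert N L T = true) : OddC G := by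
  classical
  unfold okCert at hc
  rw [Bool.and_eq_true, Bool.and_eq_true] at hc
  obtain ⟨⟨hc1, hc2⟩, hc3⟩ := hc
  rw [List.all_eq_true] at hc2 hc3
  -- the prime divisors
  have hpr : ∀ p : ℕ, p.Prime → p ∣ Nat.card G → p ≠ 2 → ∃ x ∈ L, x.1 = p := by
    intro p hp hd hp2
    have h1 : N ∣ (2 * (L.map Prod.fst).prod) ^ 64 := Nat.dvd_of_mod_eq_zero (Nat.eq_of_beq_eq_true hc1)
    have h3 := hp.dvd_of_dvd_pow ((hN ▸ hd).trans h1)
    rcases hp.dvd_mul.1 h3 with h | h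
    · exact absurd ((Nat.prime_dvd_prime_iff_eq hp Nat.prime_two).1 h) hp2
    · obtain ⟨a, ha, hpa⟩ := (Prime.dvd_prod_iff hp.prime).1 h
      obtain ⟨x, hx, rfl⟩ := List.mem_map.1 ha
      exact ⟨x, hx, ((Nat.prime_dvd_prime_iff_eq hp (hL x hx)).1 hpa).symm⟩
  have hexp : ∀ x ∈ L, ∀ i : ℕ, x.1 ^ i ∣ Nat.card G → i ≤ x.2 := by
    intro x hx i hd
    by_contra hlt
    have h1 := hc2 x hx
    rw [Bool.and_eq_true] at h1
    have h1 := h1.1
    rw [Bool.not_eq_true', ← Bool.not_eq_true] at h1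
    apply h1
    rw [Nat.mod_eq_zero_of_dvd ((pow_dvd_pow x.1 (by omega : x.2 + 1 ≤ i)).trans (hN ▸ hd))]
    rfl
  intro π h2 H K hH hK
  set σ : List (ℕ × ℕ) := L.filter fun x => decide (x.1 ∈ π) with hσ
  have hσm : ∀ x, x ∈ σ ↔ x ∈ L ∧ x.1 ∈ π := by
    intro x
    rw [hσ, List.mem_filter, decide_eq_true_iff]
  have hprσ : ∀ p : ℕ, p.Prime → p ∣ Nat.card G → p ∈ π → ∃ x ∈ σ, x.1 = p := by
    intro p hp hd hpπ
    obtain ⟨x, hx, rfl⟩ := hpr p hp hd (fun h => h2 (h ▸ hpπ))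
    exact ⟨x, (hσm x).2 ⟨hx, hpπ⟩, rfl⟩
  have hok := hc3 σ (List.mem_sublists.2 List.filter_sublist)
  unfold okS at hok
  rw [Bool.or_eq_true, Bool.or_eq_true] at hok
  have hall : ∀ x ∈ σ, x.1 ∣ Nat.card G := by
    intro x hx
    have h1 := hc2 x ((hσm x).1 hx).1
    rw [Bool.and_eq_true] at h1
    rw [hN]
    exact Nat.dvd_of_mod_eq_zero (Nat.eq_of_beq_eq_true h1.2)
  rcases hok with (hok | hok) | hok
  · have hemp : σ = [] := List.isEmpty_iff.1 hok
    have hbot : ∀ X : Subgroup G, IsPiHall π X → X = ⊥ := by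
      intro X hX
      by_contra hne
      have h1 : Nat.card X ≠ 1 := fun h => hne (card_eq_one.1 h)
      obtain ⟨p, hp, hd⟩ := Nat.exists_prime_and_dvd h1
      obtain ⟨x, hx, -⟩ := hprσ p hp (hd.trans (card_subgroup_dvd_card X)) (hX.1 p hp hd)
      rw [hemp] at hx
      exact absurd hx List.not_mem_nil
    exact ⟨1, by rw [hbot H hH, hbot K hK]; simp⟩
  · rw [List.any_eq_true] at hok
    obtain ⟨s, hs, hst⟩ := hok
    rw [List.all_eq_true] at hst
    obtain ⟨hsL, hsπ⟩ := (hσm s).1 hs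
    refine conj_of_inv1 hna hind h2 (hL s hsL) hsπ (hall s hs) ?_ hH hK
    intro t ht hts htπ htG
    obtain ⟨x, hx, rfl⟩ := hprσ t ht htG htπ
    have h1 := hst x hx
    rw [Bool.or_eq_true] at h1
    rcases h1 with h1 | h1
    · exact absurd (Nat.eq_of_beq_eq_true h1) hts
    · exact hT _ (inT_spec h1)
  · rw [List.any_eq_true] at hok
    obtain ⟨r, hr, hrp⟩ := hok
    rw [List.all_eq_true] at hrp
    obtain ⟨hrL, hrπ⟩ := (hσm r).1 hr
    refine conj_of_dom hna hind h2 (hL r hrL) hrπ (hall r hr) ?_ hH hK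
    intro p hp hpr' hpπ i hi hd
    obtain ⟨x, hx, rfl⟩ := hprσ p hp ((dvd_pow_self p hi.ne').trans hd) hpπ
    exact dm_spec (hrp x hx) hpr' hi (hexp x ((hσm x).1 hx).1 i hd)

end Cfsg.Agent.H171.Odd
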