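import Cfsg.Agent.CpAutBig.SevenFix
import Cfsg.Agent.BpSpor.MBigCo
import Cfsg.Agent.PreUniqCo.Facts
import Cfsg.Agent.PreUniqCo.Rows
import Cfsg.Agent.CpAutCoFive.Core
import Cfsg.Agent.H171.Odd.Tools
import Cfsg.Agent.H171.Odd.Cert

/-!
# Odd Hall subgroups of `Co₂`, `Co₃`, `McL` (helper171)
-/

set_option autoImplicit false

namespace Cfsg.Agent.H171.Odd

open Cfsg Subgroup Cfsg.Agent.SporadicStructure.Co0Base Cfsg.Agent.CpAutBig

/-- centralizers embed -/
theorem cent_dvd {G K : Type*} [Group G] [Group K] (φ : G →* K) (hφ : Function.Injective φ) (x : G) :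
    Nat.card ↥(centralizer ({x} : Set G)) ∣ Nat.card ↥(centralizer ({φ x} : Set K)) := by
  have h1 : (centralizer ({x} : Set G)).map φ ≤ centralizer ({φ x} : Set K) := by
    rintro _ ⟨g, hg, rfl⟩
    rw [mem_centralizer_singleton_iff, ← map_mul, ← map_mul, mem_centralizer_singleton_iff.1 hg]
  have h2 := card_dvd_of_le h1
  rwa [Subgroup.card_map_of_injective hφ] at h2

/-- an element of prime order in a group with an abelian Sylow subgroup -/
theorem sq_dvd_cent {G : Type*} [Group G] [Finite G] {p : ℕ} (hp : p.Prime) (h2 : p ^ 2 ∣ Nat.card G)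
    (h3 : ¬ p ^ 3 ∣ Nat.card G) {x : G} (hx : orderOf x = p) : p ^ 2 ∣ Nat.card ↥(centralizer ({x} : Set G)) := by
  have hf : Fact p.Prime := ⟨hp⟩
  have hz : IsPGroup p ↥(zpowers x) := IsPGroup.of_card (n := 1) (by rw [Nat.card_zpowers, hx, pow_one])
  obtain ⟨P, hP⟩ := hz.exists_le_sylow
  have hc : Nat.card ↥(P : Subgroup G) = p ^ 2 := by
    obtain ⟨k, hk⟩ := P.isPGroup'.exists_card_eq
    have h4 := P.pow_dvd_card_of_pow_dvd_card h2
    have h5 : k < 3 := by
      by_contra hcon
      exact h3 ((pow_dvd_pow p (by omega : 3 ≤ k)).trans (hk ▸ card_subgroup_dvd_card (P : Subgroup G)))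
    have h6 : 2 ≤ k := by
      rw [hk] at h4
      exact (Nat.pow_dvd_pow_iff_le_right hp.one_lt).1 h4
    rw [hk, show k = 2 by omega]
  have hcomm := IsPGroup.isMulCommutative_of_card_eq_prime_sq hc
  have hle : (P : Subgroup G) ≤ centralizer ({x} : Set G) := by
    intro g hg
    rw [mem_centralizer_singleton_iff]
    have h7 := hcomm.is_comm.comm (⟨g, hg⟩ : ↥(P : Subgroup G)) ⟨x, hP (mem_zpowers x)⟩
    exact congrArg Subtype.val h7
  exact hc ▸ card_dvd_of_le hle

namespace Conway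

theorem mcl_le : Spor.McL ≤ Co0 := inf_le_left.trans inf_le_left

theorem co2_le : Spor.Co2 ≤ Co0 := inf_le_left

theorem co3_le : Spor.Co3 ≤ Co0 := inf_le_left

theorem card_co0 : Nat.card Co0 = 8315553613086720000 := by rw [S0397.result]

/-- the centralizer of an element of order seven with a fixed vector -/
theorem cent_seven {y : Co0} (hy : orderOf y = 7) {v : leechLattice} (hv : v ≠ 0) (hyv : y • v = v) :
    49 ∣ Nat.card ↥(centralizer ({y} : Set Co0)) ∧ Nat.card ↥(centralizer ({y} : Set Co0)) ≤ 4704 := by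
  have hfin := CoZero.finite_co0
  constructor
  · have h := sq_dvd_cent (p := 7) (by norm_num) (by rw [card_co0]; norm_num) (by rw [card_co0]; norm_num) hy
    simpa using h
  · obtain ⟨g, hg⟩ := SevenFix.conj_seven hy hv hyv
    rw [CoZero.card_centralizer_of_conj (by norm_num) hy SevenFix.orderOf_r7 hg]
    exact SevenFix.card_le_r7

/-- the centralizer of an element of order eleven -/
theorem cent_eleven {y : Co0} (hy : orderOf y = 11) : Nat.card ↥(centralizer ({y} : Set Co0)) ≤ 264 := by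
  have hfin := CoZero.finite_co0
  let f : ↥(centralizer ({y} : Set Co0)) →* Spor.Co1 :=
    (QuotientGroup.mk' (Subgroup.center Co0)).comp (centralizer ({y} : Set Co0)).subtype
  have hker : Nat.card ↥f.ker ≤ 2 := by
    have h1 : f.ker.map (centralizer ({y} : Set Co0)).subtype ≤ Subgroup.center Co0 := by
      rintro _ ⟨g, hg, rfl⟩
      exact (QuotientGroup.eq_one_iff _).1 hg
    have h2 := Subgroup.card_le_of_le h1
    rwa [Subgroup.card_map_of_injective (Subgroup.subtype_injective _), S0398.result] at h2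
  have hfin1 : Finite Spor.Co1 := BpSpor.MBigCo.finite_co1
  have hf11 : Fact (Nat.Prime 11) := ⟨by norm_num⟩
  have hoy : orderOf (QuotientGroup.mk y : Spor.Co1) = 11 := by
    apply orderOf_eq_prime
    · rw [← QuotientGroup.mk_pow, ← hy, pow_orderOf_eq_one]; rfl
    · intro h1
      have h2 : y ∈ Subgroup.center Co0 := (QuotientGroup.eq_one_iff _).1 h1
      have h3 := Subgroup.orderOf_dvd_natCard (Subgroup.center Co0) h2
      rw [hy, S0398.result] at h3
      norm_num at h3
  have hr : Nat.card ↥f.range ≤ 132 := by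
    have h1 : f.range ≤ centralizer ({(QuotientGroup.mk y : Spor.Co1)} : Set Spor.Co1) := by
      rintro _ ⟨g, rfl⟩
      rw [mem_centralizer_singleton_iff]
      have h2 := mem_centralizer_singleton_iff.1 g.2
      change (QuotientGroup.mk (g : Co0) : Spor.Co1) * QuotientGroup.mk y = QuotientGroup.mk y * QuotientGroup.mk (g : Co0)
      rw [← QuotientGroup.mk_mul, ← QuotientGroup.mk_mul, h2]
    exact (Subgroup.card_le_of_le h1).trans (BpSpor.MBigCo.card_cent hoy)
  rw [Subgroup.card_eq_card_quotient_mul_card_subgroup f.ker,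
    Nat.card_congr (QuotientGroup.quotientKerEquivRange f).toEquiv]
  calc Nat.card ↥f.range * Nat.card ↥f.ker ≤ 132 * 2 := Nat.mul_le_mul hr hker
    _ = 264 := by norm_num

section

variable {G : Type*} [Group G] [Finite G] (φ : G →* Co0) (hφ : Function.Injective φ)
  {v : leechLattice} (hv : v ≠ 0) (hfix : ∀ g, φ g • v = v)

include hφ hv hfix

theorem not_dvd_five {y : G} (hy : orderOf y = 5) : ¬ 9 ∣ Nat.card ↥(centralizer ({y} : Set G)) := by
  have hmem : y ∈ centralizer ({y} : Set G) := mem_centralizer_singleton_iff.2 rfl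
  obtain ⟨x, hx⟩ : ∃ x : ↥(centralizer ({y} : Set G)), (x : G) = y := ⟨⟨y, hmem⟩, rfl⟩
  refine CpAutCoFive.not_nine PreUniqCo.Facts.facts (φ := φ.comp (centralizer ({y} : Set G)).subtype) (x := x)
    (hφ.comp Subtype.val_injective) hv (fun h => hfix _) ?_ ?_
  · rw [← Subgroup.orderOf_coe, hx, hy]
  · intro g
    apply Subtype.ext
    rw [coe_mul, coe_mul, hx]
    exact mem_centralizer_singleton_iff.1 g.2

theorem not_dvd_seven {y : G} (hy : orderOf y = 7) : ¬ 3 ^ 5 ∣ Nat.card ↥(centralizer ({y} : Set G)) := by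
  intro hd
  have hfin := CoZero.finite_co0
  have h1 : orderOf (φ y) = 7 := by rw [orderOf_injective φ hφ, hy]
  obtain ⟨h2, h3⟩ := cent_seven h1 hv (hfix y)
  have h4 := hd.trans (cent_dvd φ hφ y)
  have h5 : 3 ^ 5 * 49 ∣ Nat.card ↥(centralizer ({φ y} : Set Co0)) :=
    Nat.Coprime.mul_dvd_of_dvd_of_dvd (by norm_num) h4 h2
  have h6 := Nat.le_of_dvd Nat.card_pos h5
  omega

omit hv hfix in
theorem not_dvd_eleven {y : G} (hy : orderOf y = 11) : ¬ 3 ^ 5 ∣ Nat.card ↥(centralizer ({y} : Set G)) := by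
  intro hd
  have hfin := CoZero.finite_co0
  have h1 : orderOf (φ y) = 11 := by rw [orderOf_injective φ hφ, hy]
  have h3 := cent_eleven h1
  have h4 := hd.trans (cent_dvd φ hφ y)
  have h5 : 11 ∣ Nat.card ↥(centralizer ({φ y} : Set Co0)) := by
    have h7 : φ y ∈ centralizer ({φ y} : Set Co0) := mem_centralizer_singleton_iff.2 rfl
    exact h1 ▸ Subgroup.orderOf_dvd_natCard _ h7
  have h8 : 3 ^ 5 * 11 ∣ Nat.card ↥(centralizer ({φ y} : Set Co0)) :=
    Nat.Coprime.mul_dvd_of_dvd_of_dvd (by norm_num) h4 h5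
  have h6 := Nat.le_of_dvd Nat.card_pos h8
  omega

theorem tab (h3 : 3 ^ 6 ∣ Nat.card G) (h5 : ¬ 5 ^ 4 ∣ Nat.card G) (h7 : ¬ 7 ^ 2 ∣ Nat.card G)
    (h11 : ¬ 11 ^ 2 ∣ Nat.card G) : ∀ x ∈ [(3, 5), (3, 7), (3, 11)], Inv1 x.1 x.2 G := by
  intro x hx
  simp only [List.mem_cons, List.not_mem_nil, or_false] at hx
  rcases hx with rfl | rfl | rfl
  · refine inv1_of_cent (a := 5) (w := 1) (b := 3) (by norm_num) (by norm_num) h3 h5 (by decide) ?_
    intro y hy hd
    exact not_dvd_five φ hφ hv hfix hy ((by norm_num : (9 : ℕ) ∣ 3 ^ 5).trans hd)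
  · refine inv1_of_cent (a := 5) (w := 1) (b := 1) (by norm_num) (by norm_num) h3 h7 (by decide) ?_
    intro y hy hd
    exact not_dvd_seven φ hφ hv hfix hy hd
  · refine inv1_of_cent (a := 5) (w := 1) (b := 1) (by norm_num) (by norm_num) h3 h11 (by decide) ?_
    intro y hy hd
    exact not_dvd_eleven φ hφ hy hd

end

end Conway

end Cfsg.Agent.H171.Odd
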