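import Cfsg.Agent.H171.Odd.Tools

/-!
# Centralizers and central quotients (helper171)
-/

set_option autoImplicit false

namespace Cfsg.Agent.H171.Odd

open Subgroup

theorem card_comap {H K : Type*} [Group H] [Finite H] [Group K] (f : H →* K) (hf : Function.Surjective f)
    (C : Subgroup K) : Nat.card ↥(C.comap f) = Nat.card ↥C * Nat.card ↥f.ker := by
  have hK : Finite K := Finite.of_surjective f hf
  have h1 := (C.comap f).card_mul_index
  rw [Subgroup.index_comap_of_surjective C hf] at h1
  have h2 := C.card_mul_index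
  have h3 : Nat.card H = Nat.card K * Nat.card ↥f.ker := by
    rw [Subgroup.card_eq_card_quotient_mul_card_subgroup f.ker,
      Nat.card_congr (QuotientGroup.quotientKerEquivOfSurjective f hf).toEquiv]
  have h4 : 0 < C.index := Nat.pos_of_ne_zero Subgroup.index_ne_zero_of_finite
  apply Nat.eq_of_mul_eq_mul_right h4
  rw [h1, h3, ← h2]
  ring

/-- the centralizer in a central quotient of coprime order -/
theorem cent_quot {H K : Type*} [Group H] [Finite H] [Group K] (f : H →* K) (hf : Function.Surjective f)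
    (hN : f.ker ≤ center H) {r : ℕ} (hr : r.Prime) (hcop : (Nat.card ↥f.ker).Coprime r) {y : K}
    (hy : orderOf y = r) :
    ∃ x : H, orderOf x = r ∧ f x = y ∧
      Nat.card ↥(centralizer ({y} : Set K)) * Nat.card ↥f.ker ∣ Nat.card ↥(centralizer ({x} : Set H)) := by
  have hfr : Fact r.Prime := ⟨hr⟩
  obtain ⟨x0, hx0⟩ := hf y
  set n := Nat.card ↥f.ker with hn
  obtain ⟨m, -, hm⟩ := Nat.exists_mul_mod_eq_one_of_coprime hcop hr.one_lt
  have hker : ∀ c ∈ f.ker, c ^ n = 1 := by
    intro c hc
    have h1 : (⟨c, hc⟩ : ↥f.ker) ^ n = 1 := pow_card_eq_one'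
    exact congrArg Subtype.val h1
  have hyr : y ^ r = 1 := by rw [← hy, pow_orderOf_eq_one]
  have hx0r : x0 ^ r ∈ f.ker := by rw [MonoidHom.mem_ker, map_pow, hx0, hyr]
  have hx1 : f (x0 ^ (n * m)) = y := by
    rw [map_pow, hx0, pow_eq_pow_mod (n * m) hyr, hm, pow_one]
  have hxr : (x0 ^ (n * m)) ^ r = 1 := by
    rw [← pow_mul, show n * m * r = r * n * m by ring, pow_mul, pow_mul, hker _ hx0r, one_pow]
  have hox : orderOf (x0 ^ (n * m)) = r := by
    apply orderOf_eq_prime hxr
    intro h1
    rw [h1, map_one] at hx1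
    rw [← hx1, orderOf_one] at hy
    exact hr.one_lt.ne hy
  refine ⟨x0 ^ (n * m), hox, hx1, ?_⟩
  generalize x0 ^ (n * m) = x at hx1 hxr hox
  rw [hn, ← card_comap f hf]
  apply card_dvd_of_le
  intro h hh
  rw [mem_comap, mem_centralizer_singleton_iff, ← hx1, ← map_mul, ← map_mul] at hh
  have hc : h * x * h⁻¹ * x⁻¹ ∈ f.ker := by
    rw [MonoidHom.mem_ker, map_mul, map_mul, hh, ← map_mul, ← map_mul, ← map_one f]
    congr 1
    group
  have hcc := mem_center_iff.1 (hN hc)
  have hcn := hker _ hc
  have hcx : h * x * h⁻¹ = (h * x * h⁻¹ * x⁻¹) * x := by group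
  have hcr : (h * x * h⁻¹ * x⁻¹) ^ r = 1 := by
    have h1 : (h * x * h⁻¹) ^ r = 1 := by rw [conj_pow, hxr]; group
    rw [hcx, (show Commute (h * x * h⁻¹ * x⁻¹) x from (hcc x).symm).mul_pow, hxr, mul_one] at h1
    exact h1
  have hc1 : h * x * h⁻¹ * x⁻¹ = 1 := by
    have h1 := orderOf_dvd_of_pow_eq_one hcn
    have h2 := orderOf_dvd_of_pow_eq_one hcr
    have h3 := Nat.dvd_gcd h1 h2
    rw [hcop, Nat.dvd_one] at h3
    exact orderOf_eq_one_iff.1 h3
  rw [mem_centralizer_singleton_iff]
  rw [hc1, one_mul] at hcx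
  calc h * x = (h * x * h⁻¹) * h := by group
    _ = x * h := by rw [hcx]

/-- a group acting with all nonidentity elements fixing exactly one point -/
theorem card_dvd_sub_one {T X : Type*} [Group T] [Finite T] [Finite X] [MulAction T X]
    (h : ∀ g : T, g ≠ 1 → Nat.card {x : X // g • x = x} = 1) : Nat.card T ∣ Nat.card X - 1 := by
  classical
  have _ := Fintype.ofFinite T
  have _ := Fintype.ofFinite X
  have _ := Fintype.ofFinite (Quotient (MulAction.orbitRel T X))
  have h1 := MulAction.sum_card_fixedBy_eq_card_orbits_mul_card_group T X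
  have h2 : ∑ a : T, Fintype.card ↑(MulAction.fixedBy X a) = Fintype.card X + (Fintype.card T - 1) := by
    rw [← Finset.add_sum_erase _ _ (Finset.mem_univ (1 : T))]
    congr 1
    · rw [← Nat.card_eq_fintype_card, ← Nat.card_eq_fintype_card]
      apply Nat.card_congr
      exact Equiv.subtypeUnivEquiv fun x => one_smul T x
    · rw [Finset.sum_congr rfl (g := fun _ => 1)]
      · rw [Finset.sum_const, smul_eq_mul, mul_one, Finset.card_erase_of_mem (Finset.mem_univ _), Finset.card_univ]
      · intro a ha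
        rw [← Nat.card_eq_fintype_card]
        exact h a (Finset.ne_of_mem_erase ha)
  rw [h2] at h1
  have h3 : Fintype.card T ∣ Fintype.card X + (Fintype.card T - 1) := h1 ▸ dvd_mul_left _ _
  have h4 : 0 < Fintype.card T := Fintype.card_pos
  rw [Nat.card_eq_fintype_card, Nat.card_eq_fintype_card]
  rcases Nat.eq_zero_or_pos (Fintype.card X) with h5 | h5
  · rw [h5]; exact dvd_zero _
  have h6 : Fintype.card X + (Fintype.card T - 1) = (Fintype.card X - 1) + Fintype.card T := by omega
  rw [h6] at h3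
  exact (Nat.dvd_add_left dvd_rfl).1 h3

end Cfsg.Agent.H171.Odd
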