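import Cfsg.Agent.H55.CoOneBd
import Cfsg.Agent.H171.Odd.ConwayA
import Cfsg.Agent.H171.Odd.Quot

/-!
# Odd Hall subgroups of `Co₁` and `Suz` (helper171)
-/

set_option autoImplicit false

namespace Cfsg.Agent.H171.Odd.CoOne

open Cfsg Subgroup Module
open Cfsg.Agent.LThreeMB (fr XX Zx)
open Cfsg.Agent.H55.CoOneLow Cfsg.Agent.H55.CoOneBd
open Cfsg.Spor (Co1)

theorem cent_five {s : Co1} (hs : orderOf s = 5) : ¬ 3 ^ 7 ∣ Nat.card ↥(centralizer ({s} : Set Co1)) := by
  intro hd
  rcases CoFive.Ranks.ranks s hs with h | h | h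
  · have h1 := MFive.JTwo.isoJ2 hs h
    obtain ⟨e⟩ := h1
    have h2 : Nat.card Cfsg.Spor.J2 = 604800 := Cfsg.Agent.S1619.result.2.2.2
    rw [card_cent_XX, hs, Nat.card_congr e.toEquiv, h2] at hd
    revert hd
    norm_num
  · obtain ⟨a, rfl, ha, hao⟩ := exists_lift (by norm_num) (by norm_num) hs
    have h1 := hd.trans ((card_cent_dvd (by decide) ha).trans (five_dvd hao (CoFiveC.Main.finrank_of_fr hao h)))
    revert h1
    norm_num
  · rw [MFiveHN.UpEight.card_cent hs h] at hd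
    revert hd
    norm_num

theorem cent_seven {s : Co1} (hs : orderOf s = 7) : ¬ 3 ^ 4 ∣ Nat.card ↥(centralizer ({s} : Set Co1)) := by
  intro hd
  have h1 := sq_dvd_cent (p := 7) (by norm_num) (by rw [card_co1]; norm_num) (by rw [card_co1]; norm_num) hs
  obtain ⟨m, h0, hm, hdm⟩ := bd_seven hs
  have h2 : 3 ^ 4 * 7 ^ 2 ∣ 2 ^ 22 * m :=
    (Nat.Coprime.mul_dvd_of_dvd_of_dvd (by norm_num) hd h1).trans hdm
  have h3 : 3 ^ 4 * 7 ^ 2 ∣ m := Nat.Coprime.dvd_of_dvd_mul_left (by norm_num) h2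
  have h4 := Nat.le_of_dvd (Nat.pos_of_ne_zero h0) h3
  omega

theorem cent_eleven {s : Co1} (hs : orderOf s = 11) : ¬ 3 ^ 3 ∣ Nat.card ↥(centralizer ({s} : Set Co1)) := by
  intro hd
  have h1 : 11 ∣ Nat.card ↥(centralizer ({s} : Set Co1)) := by
    have h7 : s ∈ centralizer ({s} : Set Co1) := mem_centralizer_singleton_iff.2 rfl
    exact hs ▸ Subgroup.orderOf_dvd_natCard _ h7
  have h2 : 3 ^ 3 * 11 ∣ Nat.card ↥(centralizer ({s} : Set Co1)) :=
    Nat.Coprime.mul_dvd_of_dvd_of_dvd (by norm_num) hd h1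
  have h3 := Nat.le_of_dvd Nat.card_pos h2
  have h4 := BpSpor.MBigCo.card_cent hs
  omega

/-- elements of order three commuting with an element of order 13 are in the class `3A` -/
theorem fr_of_thirteen {s : Co1} (hs : orderOf s = 3) (hd : 13 ∣ Nat.card ↥(centralizer ({s} : Set Co1))) :
    fr s = 1 := by
  rcases LThreeCo1.Ranks.ranks s hs with h | h | h | h
  · exact h
  · exfalso
    obtain ⟨g, hg⟩ := LThreeCo1.Ranks.conj_rep LThreeCo1.Ranks.uniq6 hs h
    rw [card_cent_conj (isConj_iff.2 ⟨g, hg⟩)] at hd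
    have h1 := hd.trans ((card_cent_dvd (n := 3) (by decide)
      (by rw [← LThreeCo1.Class.order_c6, pow_orderOf_eq_one])).trans
      (six_dvd LThreeCo1.Class.order_c6 LThreeCo1Six.Data.dx LThreeCo1Six.Data.reg))
    revert h1
    norm_num
  · exfalso
    obtain ⟨t, ht, hft, ⟨e⟩, -⟩ := LThreeMB.CEight.nine
    obtain ⟨g, hg⟩ := LThreeCo1.Ranks.eight s t hs ht h hft
    have h9 := LThreeCo1Twelve.Elim.card_alt 9 (by norm_num)
    have h9' : Nat.card ↥(alternatingGroup (Fin 9)) = 181440 := by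
      have : (9 : ℕ).factorial = 362880 := by decide
      omega
    rw [card_cent_conj (isConj_iff.2 ⟨g, hg⟩), card_cent_XX, ht, Nat.card_congr e.toEquiv, h9'] at hd
    revert hd
    norm_num
  · exfalso
    obtain ⟨t, ht, hft, hct, -⟩ := LThreeMB.CoOneFin.coOne.psu
    obtain ⟨g, hg⟩ := LThreeCo1.Ranks.twelve s t hs ht h hft
    obtain ⟨E, M, iE, iM, K, iK, iK', hEM, hE, hM, hK, ⟨e⟩⟩ := hct.chain
    have h1 : Nat.card ↥M = Nat.card (↥M ⧸ E.subgroupOf M) * Nat.card ↥(E.subgroupOf M) :=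
      Subgroup.card_eq_card_quotient_mul_card_subgroup _
    rw [Nat.card_congr e.toEquiv, LThreeB.card_psu hK,
      Nat.card_congr (Subgroup.subgroupOfEquivOfLe hEM).toEquiv, hE] at h1
    have h2 := M.card_mul_index
    rw [h1, hM] at h2
    rw [card_cent_conj (isConj_iff.2 ⟨g, hg⟩), card_cent_XX, ht, ← h2] at hd
    revert hd
    norm_num

theorem fr_pow_ge (g : Co1) (n : ℕ) : fr g ≤ fr (g ^ n) := by
  have hfin : Finite MonsterU.Lam2.L2 := inferInstance
  unfold fr
  apply Nat.card_le_card_of_injective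
    (fun v : {v : MonsterU.Lam2.L2 // g • v = v} => (⟨v.1, by
      have hv := v.2
      induction n with
      | zero => rw [pow_zero, one_smul]
      | succ k ih => rw [pow_succ, mul_smul, hv, ih]⟩ : {v : MonsterU.Lam2.L2 // (g ^ n) • v = v}))
  intro a b hab
  exact Subtype.ext (congrArg (fun z : {v : MonsterU.Lam2.L2 // (g ^ n) • v = v} => z.1) hab)

theorem one_le_fr (g : Co1) : 1 ≤ fr g := by
  have hfin : Finite MonsterU.Lam2.L2 := inferInstance
  unfold fr
  have : Nonempty {v : MonsterU.Lam2.L2 // g • v = v} := ⟨⟨0, smul_zero g⟩⟩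
  exact Nat.card_pos

theorem cent_thirteen {s : Co1} (hs : orderOf s = 13) : ¬ 3 ^ 3 ∣ Nat.card ↥(centralizer ({s} : Set Co1)) := by
  intro hd
  have h3 : Fact (Nat.Prime 3) := ⟨Nat.prime_three⟩
  have hfin : Finite MonsterU.Lam2.L2 := inferInstance
  obtain ⟨T, hT⟩ := Sylow.exists_subgroup_card_pow_prime 3 (n := 3) (G := ↥(centralizer ({s} : Set Co1))) hd
  let T' : Subgroup Co1 := T.map (centralizer ({s} : Set Co1)).subtype
  have hT' : Nat.card ↥T' = 3 ^ 3 := by
    rw [← hT]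
    exact Subgroup.card_map_of_injective (Subgroup.subtype_injective _)
  have hcomm : ∀ g ∈ T', g * s = s * g := by
    rintro _ ⟨g, -, rfl⟩
    exact mem_centralizer_singleton_iff.1 g.2
  have hfr3 : ∀ g ∈ T', orderOf g = 3 → fr g = 1 := by
    intro g hg ho
    apply fr_of_thirteen ho
    have h7 : s ∈ centralizer ({g} : Set Co1) := mem_centralizer_singleton_iff.2 (hcomm g hg).symm
    exact hs ▸ Subgroup.orderOf_dvd_natCard _ h7
  have hfr : ∀ g ∈ T', g ≠ 1 → fr g = 1 := by
    intro g hg hg1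
    have hord : orderOf g ∣ 3 ^ 3 := hT' ▸ Subgroup.orderOf_dvd_natCard T' hg
    obtain ⟨k, hk, hk'⟩ := (Nat.dvd_prime_pow Nat.prime_three).1 hord
    have hk0 : k ≠ 0 := by
      rintro rfl
      rw [pow_zero] at hk'
      exact hg1 (orderOf_eq_one_iff.1 hk')
    obtain ⟨j, rfl⟩ := Nat.exists_eq_succ_of_ne_zero hk0
    have h8 : orderOf (g ^ 3 ^ j) = 3 := by
      rw [orderOf_pow_of_dvd (pow_pos (by norm_num) j).ne' (by rw [hk', pow_succ]; exact dvd_mul_right _ _), hk',
        pow_succ, Nat.mul_div_cancel_left _ (pow_pos (by norm_num) j)]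
    have h9 := hfr3 _ (T'.pow_mem hg _) h8
    have h10 := fr_pow_ge g (3 ^ j)
    have h11 := one_le_fr g
    omega
  have h4 := card_dvd_sub_one (T := ↥T') (X := MonsterU.Lam2.L2) (fun g hg => by
    have h5 := hfr (g : Co1) g.2 (fun h => hg (Subtype.ext h))
    exact h5)
  have h6 : Nat.card MonsterU.Lam2.L2 = 2 ^ 24 := by
    have h7 := H800.ME.CoFacts.fr_one
    unfold fr at h7
    rw [← h7]
    exact (Nat.card_congr (Equiv.subtypeUnivEquiv fun x => one_smul Co1 x)).symm
  rw [h6, hT'] at h4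
  revert h4
  norm_num

theorem tab {G : Type*} [Group G] [Finite G] (hc : Nat.card G = 4157776806543360000) (e : G ≃* Co1) :
    ∀ x ∈ [(3, 5), (3, 7), (3, 11), (3, 13)], Inv1 x.1 x.2 G := by
  have hcent : ∀ y : G, Nat.card ↥(centralizer ({y} : Set G)) ∣ Nat.card ↥(centralizer ({e y} : Set Co1)) := fun y =>
    cent_dvd e.toMonoidHom e.injective y
  have ho : ∀ y : G, orderOf (e y) = orderOf y := fun y => MulEquiv.orderOf_eq e y
  intro x hx
  simp only [List.mem_cons, List.not_mem_nil, or_false] at hx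
  rcases hx with rfl | rfl | rfl | rfl
  · refine inv1_of_cent (a := 8) (w := 1) (b := 4) (by norm_num) (by norm_num) (by rw [hc]; norm_num)
      (by rw [hc]; norm_num) (by decide) ?_
    intro y hy hd
    exact cent_five ((ho y).trans hy) ((pow_dvd_pow 3 (by norm_num)).trans (hd.trans (hcent y)))
  · refine inv1_of_cent (a := 8) (w := 1) (b := 2) (by norm_num) (by norm_num) (by rw [hc]; norm_num)
      (by rw [hc]; norm_num) (by decide) ?_
    intro y hy hd
    exact cent_seven ((ho y).trans hy) ((pow_dvd_pow 3 (by norm_num)).trans (hd.trans (hcent y)))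
  · refine inv1_of_cent (a := 8) (w := 1) (b := 1) (by norm_num) (by norm_num) (by rw [hc]; norm_num)
      (by rw [hc]; norm_num) (by decide) ?_
    intro y hy hd
    exact cent_eleven ((ho y).trans hy) ((pow_dvd_pow 3 (by norm_num)).trans (hd.trans (hcent y)))
  · refine inv1_of_cent (a := 8) (w := 1) (b := 1) (by norm_num) (by norm_num) (by rw [hc]; norm_num)
      (by rw [hc]; norm_num) (by decide) ?_
    intro y hy hd
    exact cent_thirteen ((ho y).trans hy) ((pow_dvd_pow 3 (by norm_num)).trans (hd.trans (hcent y)))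

/-- the centralizers in `Suz = C(a) / ⟨a⟩` -/
theorem cent_suz {G : Type*} [Group G] [Finite G] (h : Spor.IsoSuz G) {r : ℕ} (hr : r.Prime) (h3 : r ≠ 3) {y : G}
    (hy : orderOf y = r) {k : ℕ} (hk : 3 ^ k ∣ Nat.card ↥(centralizer ({y} : Set G))) :
    ∃ x : Co1, orderOf x = r ∧ 3 ^ (k + 1) ∣ Nat.card ↥(centralizer ({x} : Set Co1)) := by
  obtain ⟨e⟩ := h
  obtain ⟨e'⟩ := LThreeMB.CoOneFin.coOne.suz H800.ME.CoFacts.a H800.ME.CoFacts.orderOf_a H800.ME.CoFacts.fr_a1
  let E : G ≃* XX H800.ME.CoFacts.a := e.trans e'.symm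
  have h1 := hk.trans (cent_dvd E.toMonoidHom E.injective y)
  have h2 : orderOf (E y) = r := (MulEquiv.orderOf_eq E y).trans hy
  have hker : (QuotientGroup.mk' (Zx H800.ME.CoFacts.a)).ker = Zx H800.ME.CoFacts.a := QuotientGroup.ker_mk' _
  have hc3 : Nat.card ↥(QuotientGroup.mk' (Zx H800.ME.CoFacts.a)).ker = 3 := by
    rw [hker, Zx, Nat.card_zpowers]
    have h : (LThreeMB.self H800.ME.CoFacts.a : ↥(centralizer ({H800.ME.CoFacts.a} : Set Co1))) =
      ⟨H800.ME.CoFacts.a, mem_centralizer_singleton_iff.2 rfl⟩ := rfl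
    rw [h, Subgroup.orderOf_mk, H800.ME.CoFacts.orderOf_a]
  obtain ⟨x, hx, -, hd⟩ := cent_quot (QuotientGroup.mk' (Zx H800.ME.CoFacts.a)) (QuotientGroup.mk'_surjective _)
    (by
      rw [hker, Zx, zpowers_le]
      exact LThreeMB.self_mem_center _) hr (by
      rw [hc3]
      exact (Nat.coprime_primes Nat.prime_three hr).2 h3.symm) h2
  refine ⟨(x : Co1), (Subgroup.orderOf_coe x).trans hx, ?_⟩
  rw [hc3] at hd
  have h4 := (Nat.mul_dvd_mul_right h1 3).trans hd
  exact h4.trans (cent_dvd (centralizer ({H800.ME.CoFacts.a} : Set Co1)).subtype (Subgroup.subtype_injective _) x)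

theorem tab_suz {G : Type*} [Group G] [Finite G] (hc : Nat.card G = 448345497600) (h : Spor.IsoSuz G) :
    ∀ x ∈ [(3, 5), (3, 7), (3, 11), (3, 13)], Inv1 x.1 x.2 G := by
  intro x hx
  simp only [List.mem_cons, List.not_mem_nil, or_false] at hx
  rcases hx with rfl | rfl | rfl | rfl
  · refine inv1_of_cent (a := 6) (w := 1) (b := 2) (by norm_num) (by norm_num) (by rw [hc]; norm_num)
      (by rw [hc]; norm_num) (by decide) ?_
    intro y hy hd
    obtain ⟨x, hx, h1⟩ := cent_suz h (by norm_num) (by norm_num) hy hd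
    exact cent_five hx ((pow_dvd_pow 3 (by norm_num)).trans h1)
  · refine inv1_of_cent (a := 6) (w := 1) (b := 1) (by norm_num) (by norm_num) (by rw [hc]; norm_num)
      (by rw [hc]; norm_num) (by decide) ?_
    intro y hy hd
    obtain ⟨x, hx, h1⟩ := cent_suz h (by norm_num) (by norm_num) hy hd
    exact cent_seven hx ((pow_dvd_pow 3 (by norm_num)).trans h1)
  · refine inv1_of_cent (a := 6) (w := 1) (b := 1) (by norm_num) (by norm_num) (by rw [hc]; norm_num)
      (by rw [hc]; norm_num) (by decide) ?_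
    intro y hy hd
    obtain ⟨x, hx, h1⟩ := cent_suz h (by norm_num) (by norm_num) hy hd
    exact cent_eleven hx ((pow_dvd_pow 3 (by norm_num)).trans h1)
  · refine inv1_of_cent (a := 6) (w := 1) (b := 1) (by norm_num) (by norm_num) (by rw [hc]; norm_num)
      (by rw [hc]; norm_num) (by decide) ?_
    intro y hy hd
    obtain ⟨x, hx, h1⟩ := cent_suz h (by norm_num) (by norm_num) hy hd
    exact cent_thirteen hx ((pow_dvd_pow 3 (by norm_num)).trans h1)

end Cfsg.Agent.H171.Odd.CoOne
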