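import Cfsg.Agent.CoFive.Ranks
import Cfsg.Agent.H171.Odd.ConwayB

/-!
# Centralizers of elements of order 5 of `Suz` (helper171)

The fixed lattice of an element of order 5 of `Co0` with fixed rank 4 has exactly ten vectors of norm 32, so no
fixed-point-free element of order 3 commutes with it: the elements of order 5 of `Suz` have fixed rank 0 or 8.
-/

set_option autoImplicit false
set_option maxRecDepth 100000

namespace Cfsg.Agent.H171.Odd.SuzFive

open Cfsg Subgroup Module
open Cfsg.Agent.LThreeMB (fr XX Zx)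
open Cfsg.Agent.SporadicStructure Cfsg.Agent.SporadicStructure.Co0Base Cfsg.Agent.SporadicStructure.Co0Matrix
open Cfsg.Agent.CoOneType.CoEval Cfsg.Agent.SigZeroCo2.Lin
open Cfsg.Agent.SigZeroCo2.Rank (fix mem_fix)
open Cfsg.Agent.CoFive.Class (r4 order_r4)
open Cfsg.Agent.CoFive.Rel (M e)
open Cfsg.Spor (Co1)
open Cfsg.Agent.MonsterU.Lam2 (smulHom)

/-- the inner product -/
def D : leechLattice →+ leechLattice →+ ℤ :=
  AddMonoidHom.mk' (fun v => AddMonoidHom.mk' (fun w => dotInt (v : GolayPt → ℤ) (w : GolayPt → ℤ)) fun a b => by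
    show dotInt (v : GolayPt → ℤ) ((a : GolayPt → ℤ) + (b : GolayPt → ℤ)) = _
    rw [dotInt_comm, dotInt_add_left, dotInt_comm _ (v : GolayPt → ℤ), dotInt_comm _ (v : GolayPt → ℤ)]) fun a b => by
    ext w
    show dotInt ((a : GolayPt → ℤ) + (b : GolayPt → ℤ)) (w : GolayPt → ℤ) = _
    rw [dotInt_add_left]
    rfl

theorem D_apply (v w : leechLattice) : D v w = dotInt (v : GolayPt → ℤ) (w : GolayPt → ℤ) := rfl

theorem D_comm (v w : leechLattice) : D v w = D w v := dotInt_comm _ _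

theorem D_self (v : leechLattice) : D v v = sqNorm (v : GolayPt → ℤ) := (sqNorm_eq_dot _).symm

theorem D_smul (g : Co0) (v w : leechLattice) : D (g • v) (g • w) = D v w := co0_dotInt g v w

theorem D_zsmul_left (n : ℤ) (v w : leechLattice) : D (n • v) w = n * D v w := by
  rw [map_zsmul, AddMonoidHom.smul_apply, smul_eq_mul]

theorem D_zsmul_right (n : ℤ) (v w : leechLattice) : D v (n • w) = n * D v w := by
  rw [map_zsmul, smul_eq_mul]

theorem D_sub_left (v v' w : leechLattice) : D (v - v') w = D v w - D v' w := by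
  rw [map_sub, AddMonoidHom.sub_apply]

theorem D_add_left (v v' w : leechLattice) : D (v + v') w = D v w + D v' w := by
  rw [map_add, AddMonoidHom.add_apply]

theorem D_pos {v : leechLattice} (h : v ≠ 0) : 32 ≤ D v v := by
  rw [D_self]
  exact Cfsg.Agent.S0391.result _ v.2 (fun h1 => h (Subtype.ext h1))

theorem D_dvd (v w : leechLattice) : (8 : ℤ) ∣ D v w := MonsterU.Lam2.dvd_dot v w

/-- orthogonal vectors of the fixed lattice -/
theorem card_le_finrank (g : Co0) {n : ℕ} (f : Fin n → leechLattice) (hfix : ∀ i, g • f i = f i)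
    (horth : ∀ i j, i ≠ j → D (f i) (f j) = 0) (hne : ∀ i, f i ≠ 0) : n ≤ finrank ℚ (fix (rep g)) := by
  let B : LinearMap.BilinForm ℚ Sp := LinearMap.mk₂ ℚ (fun x y => ∑ i, x i * y i)
    (fun x y z => by simp only [Pi.add_apply, add_mul, Finset.sum_add_distrib])
    (fun c x y => by simp only [Pi.smul_apply, smul_eq_mul, mul_assoc, Finset.mul_sum])
    (fun x y z => by simp only [Pi.add_apply, mul_add, Finset.sum_add_distrib])
    (fun c x y => by
      simp only [Pi.smul_apply, smul_eq_mul, Finset.mul_sum]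
      exact Finset.sum_congr rfl fun i _ => by ring)
  have hB : ∀ v w : leechLattice, B (toV v) (toV w) = (D v w : ℚ) := by
    intro v w
    show ∑ i, toV v i * toV w i = _
    rw [D_apply, dotInt]
    push_cast
    rfl
  have hli : LinearIndependent ℚ fun i => toV (f i) := by
    refine LinearMap.BilinForm.linearIndependent_of_iIsOrtho (B := B) ?_ ?_
    · rw [LinearMap.BilinForm.iIsOrtho_def]
      intro i j hij
      rw [hB, horth i j hij]
      rfl
    · intro i h
      have h1 : B (toV (f i)) (toV (f i)) = 0 := h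
      rw [hB] at h1
      have h2 : D (f i) (f i) = 0 := by exact_mod_cast h1
      have h3 := D_pos (hne i)
      omega
  have h1 := finrank_span_eq_card hli
  rw [Fintype.card_fin] at h1
  rw [← h1]
  refine Submodule.finrank_mono ?_
  rw [Submodule.span_le]
  rintro _ ⟨i, rfl⟩
  exact mem_fix.2 (by rw [rep_toV, hfix])

/-! ### The five vectors -/

/-- coordinates -/
def l : Fin 5 → List ℤ
  | 0 => [0, 0, 2, -2, 2, 0, 0, 0, 0, 0, 2, 0, 0, -2, -2, 0, 0, 0, 0, 0, -2, 0, 0, 2]
  | 1 => [0, 0, 0, -2, -2, 2, 0, 0, 0, 0, -2, 2, 2, 0, 0, 0, -2, 0, 0, 0, 2, 0, 0, 0]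
  | 2 => [0, 2, -2, 2, 0, 0, 0, 0, 0, 0, 0, 2, -2, 0, 2, -2, 0, 0, 0, 0, -2, 0, 0, 0]
  | 3 => [0, 0, -2, 0, 2, 0, 0, 0, -2, 0, 0, -2, 0, 0, 0, 2, 2, 0, 0, 0, 2, 0, 0, -2]
  | 4 => [0, -2, 2, 2, -2, -2, 0, 0, 2, 0, 0, -2, 0, 2, 0, 0, 0, 0, 0, 0, 0, 0, 0, 0]

theorem l_ok : ∀ i, leechB (l i) = true := by decide +kernel

/-- the vectors -/
def V (i : Fin 5) : leechLattice := ⟨vec (l i), vec_mem_of_leechB (l_ok i)⟩

theorem length_l (i : Fin 5) : (l i).length = 24 := by
  revert i
  decide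

theorem gram_l : ∀ i j, dotL (l i) (l j) = if i = j then 32 else -8 := by decide +kernel

theorem gram (i j : Fin 5) : D (V i) (V j) = if i = j then 32 else -8 := by
  rw [← gram_l, D_apply]
  exact dotInt_vec _ _ (length_l i).le

theorem ap_l : ∀ i, ap (M 1) (l i) = l i := by decide +kernel

theorem fix_V (i : Fin 5) : r4 • V i = V i := by
  apply Subtype.ext
  have h := (Cfsg.Agent.CoFive.Rel.rep 1).apply (v := V i) (length_l i).le rfl
  rw [ap_l] at h
  exact h

theorem sum_V : V 0 + V 1 + V 2 + V 3 + V 4 = 0 := by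
  apply Subtype.ext
  funext p
  show vec (l 0) p + vec (l 1) p + vec (l 2) p + vec (l 3) p + vec (l 4) p = 0
  have h := of_range_all (P := fun i => decide ((l 0).getD i 0 + (l 1).getD i 0 + (l 2).getD i 0 + (l 3).getD i 0 +
    (l 4).getD i 0 = 0)) (by decide +kernel) p
  exact of_decide_eq_true h

/-- the norm of a fixed vector -/
theorem norm_eq {w : leechLattice} (hw : r4 • w = w) :
    40 * D w w = D w (V 0) ^ 2 + D w (V 1) ^ 2 + D w (V 2) ^ 2 + D w (V 3) ^ 2 + D w (V 4) ^ 2 := by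
  have hs : D w (V 0) + D w (V 1) + D w (V 2) + D w (V 3) + D w (V 4) = 0 := by
    rw [← map_add, ← map_add, ← map_add, ← map_add, sum_V, map_zero]
  set b0 := D w (V 0)
  set b1 := D w (V 1)
  set b2 := D w (V 2)
  set b3 := D w (V 3)
  set b4 := D w (V 4)
  set u : leechLattice := (40 : ℤ) • w - b0 • V 0 - b1 • V 1 - b2 • V 2 - b3 • V 3 - b4 • V 4 with hu
  have hV : ∀ i, smulHom r4 (V i) = V i := fix_V
  have hW : smulHom r4 w = w := hw
  have hfu : smulHom r4 u = u := by
    rw [hu]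
    simp only [map_sub, map_zsmul, hV, hW]
  have hu0 : ∀ i, D u (V i) = 0 := by
    have hg : ∀ i, D w (V i) = ![b0, b1, b2, b3, b4] i := by
      intro i
      fin_cases i <;> rfl
    intro i
    rw [hu]
    simp only [D_sub_left, D_zsmul_left, gram, hg]
    fin_cases i <;> simp <;> linarith
  have h0 : u = 0 := by
    by_contra hne
    have hus : ∀ i, D (V i) u = 0 := fun i => by rw [D_comm, hu0]
    have h1 := card_le_finrank r4 ![V 0 - V 1, V 2 - V 3, V 0 + V 1 - V 2 - V 3, V 4, u] ?_ ?_ ?_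
    · rw [CoFive.Dims.finrank_r4] at h1
      omega
    · intro i
      show smulHom r4 _ = _
      fin_cases i <;> simp [map_sub, map_add, hV, hfu]
    · intro i j hij
      fin_cases i <;> fin_cases j <;> first
        | exact absurd rfl hij
        | (simp [map_sub, map_add, gram, hu0, hus])
    · intro i h2
      have h3 : ∀ v : leechLattice, D v v ≠ 0 → v ≠ 0 := by
        rintro v hv rfl
        exact hv (by rw [map_zero])
      fin_cases i
      · exact h3 (V 0 - V 1) (by simp [map_sub, gram]) h2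
      · exact h3 (V 2 - V 3) (by simp [map_sub, gram]) h2
      · exact h3 (V 0 + V 1 - V 2 - V 3) (by simp [map_sub, map_add, gram]) h2
      · exact h3 (V 4) (by simp [gram]) h2
      · exact hne h2
  have h1 : D w u = 0 := by rw [h0, map_zero]
  rw [hu] at h1
  simp only [map_sub, D_zsmul_right] at h1
  linear_combination h1

theorem arith {a b c d : ℤ} (h1 : a ^ 2 + b ^ 2 + c ^ 2 + d ^ 2 = 16) (hs : a + b + c + d = 2)
    (ha : 8 * a ≤ 16 ∧ -16 ≤ 8 * a) (hb : 8 * b ≤ 16 ∧ -16 ≤ 8 * b) (hc : 8 * c ≤ 16 ∧ -16 ≤ 8 * c)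
    (hd : 8 * d ≤ 16 ∧ -16 ≤ 8 * d) : False := by
  have key : ∀ a : ℤ, 8 * a ≤ 16 ∧ -16 ≤ 8 * a → a ^ 2 ≤ 4 := by
    rintro a ⟨h1, h2⟩
    have h4 : a ≤ 2 := by omega
    have h5 : -2 ≤ a := by omega
    interval_cases a <;> norm_num
  have key2 : ∀ a : ℤ, 8 * a ≤ 16 ∧ -16 ≤ 8 * a → a ^ 2 = 4 → a = 2 ∨ a = -2 := by
    rintro a ⟨h1, h2⟩ h3
    have h4 : a ≤ 2 := by omega
    have h5 : -2 ≤ a := by omega
    interval_cases a <;> simp_all
  have d1 := key a ha
  have d2 := key b hb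
  have d3 := key c hc
  have d4 := key d hd
  have f1 : a ^ 2 = 4 := by linarith
  have f2 : b ^ 2 = 4 := by linarith
  have f3 : c ^ 2 = 4 := by linarith
  have f4 : d ^ 2 = 4 := by linarith
  have g1 := key2 a ha f1
  have g2 := key2 b hb f2
  have g3 := key2 c hc f3
  have g4 := key2 d hd f4
  clear f1 f2 f3 f4 d1 d2 d3 d4 key key2 h1
  omega

/-- there is no fixed vector of norm 32 with inner product `-16` with `V 0` -/
theorem no_vec {w : leechLattice} (hw : r4 • w = w) (hn : D w w = 32) : D w (V 0) ≠ -16 := by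
  intro h16
  have h1 := norm_eq hw
  rw [hn, h16] at h1
  have hs : D w (V 0) + D w (V 1) + D w (V 2) + D w (V 3) + D w (V 4) = 0 := by
    rw [← map_add, ← map_add, ← map_add, ← map_add, sum_V, map_zero]
  rw [h16] at hs
  have hb : ∀ i : Fin 5, i ≠ 0 → D w (V i) ≤ 16 ∧ -16 ≤ D w (V i) := by
    intro i hi
    have hg : D (V i) (V i) = 32 := by rw [gram, if_pos rfl]
    have hg0 : D (V i) (V 0) = -8 := by rw [gram, if_neg hi]
    constructor
    · have h2 : w - V i ≠ 0 := by
        intro h2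
        rw [sub_eq_zero] at h2
        rw [h2, hg0] at h16
        omega
      have h3 := D_pos h2
      rw [D_sub_left, map_sub, map_sub, hn, hg, D_comm (V i) w] at h3
      linarith
    · have h2 : w + V i ≠ 0 := by
        intro h2
        have h4 : D (w + V i) (V 0) = 0 := by rw [h2, map_zero, AddMonoidHom.zero_apply]
        rw [D_add_left, h16, hg0] at h4
        omega
      have h3 := D_pos h2
      rw [D_add_left, map_add, map_add, hn, hg, D_comm (V i) w] at h3
      linarith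
  obtain ⟨a1, e1⟩ := D_dvd w (V 1)
  obtain ⟨a2, e2⟩ := D_dvd w (V 2)
  obtain ⟨a3, e3⟩ := D_dvd w (V 3)
  obtain ⟨a4, e4⟩ := D_dvd w (V 4)
  have c1 := hb 1 (by decide)
  have c2 := hb 2 (by decide)
  have c3 := hb 3 (by decide)
  have c4 := hb 4 (by decide)
  rw [e1] at c1
  rw [e2] at c2
  rw [e3] at c3
  rw [e4] at c4
  rw [e1, e2, e3, e4] at h1 hs
  exact arith (by linarith) (by linarith) c1 c2 c3 c4

/-- **no fixed-point-free element of order 3 commutes with `r4`** -/
theorem no_comm_co0 {x : Co0} (hx : x ^ 3 = 1) (hxr : x * r4 = r4 * x) : finrank ℚ (fix (rep x)) ≠ 0 := by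
  intro h0
  have hV : ∀ i, smulHom r4 (V i) = V i := fix_V
  have hxx' : x * x * x = 1 := by rw [← hx, pow_succ, pow_two]
  -- the sum of the orbit vanishes
  set w : leechLattice := x • V 0 with hw
  set w' : leechLattice := x • w with hw'
  have hxw' : x • w' = V 0 := by
    rw [hw', hw, ← mul_smul, ← mul_smul, hxx', one_smul]
  have hsum : V 0 + w + w' = 0 := by
    have h1 : x • (V 0 + w + w') = V 0 + w + w' := by
      show smulHom x _ = _
      rw [map_add, map_add]
      show x • V 0 + x • w + x • w' = _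
      rw [hxw', ← hw, ← hw']
      abel
    have h2 : toV (V 0 + w + w') ∈ fix (rep x) := mem_fix.2 (by rw [rep_toV, h1])
    rw [Submodule.finrank_eq_zero] at h0
    rw [h0, Submodule.mem_bot] at h2
    exact toV_injective (h2.trans toV_zero.symm)
  have hg : D (V 0) (V 0) = 32 := by rw [gram, if_pos rfl]
  have h1 : D w w = 32 := by rw [hw, D_smul, hg]
  have h2 : D (V 0) w' = D w (V 0) := by
    rw [← D_smul x (V 0) w', hxw']
  have h3 : r4 • w = w := by
    rw [hw, ← mul_smul, ← hxr, mul_smul, fix_V]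
  refine no_vec h3 h1 ?_
  have h4 : D (V 0) (V 0 + w + w') = 0 := by rw [hsum, map_zero]
  rw [map_add, map_add, h2, hg, D_comm (V 0) w] at h4
  omega

/-- elements of order 5 and fixed rank 4 do not commute with elements of order 3 and fixed rank 0 -/
theorem no_comm {s x : Co1} (hs : orderOf s = 5) (h4 : fr s = 2 ^ 4) (hx : orderOf x = 3) (h1 : fr x = 1) :
    x * s ≠ s * x := by
  intro hc
  have hcon : IsConj s (QuotientGroup.mk r4 : Co1) := by
    rcases CoFive.Ranks.main_co1 hs with ⟨-, h⟩ | ⟨h, -⟩ | ⟨-, h⟩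
    · rw [h4] at h
      norm_num at h
    · exact h
    · rw [h4] at h
      norm_num at h
  obtain ⟨y, hy⟩ := isConj_iff.1 hcon
  have hx' : orderOf (y * x * y⁻¹) = 3 := (MulEquiv.orderOf_eq (MulAut.conj y) x).trans hx
  obtain ⟨a, ha, ha3, -⟩ := Cfsg.Agent.H55.CoOneBd.exists_lift Nat.prime_three (by norm_num) hx'
  have hac : (QuotientGroup.mk (a * r4 * a⁻¹ * r4⁻¹) : Co1) = 1 := by
    rw [QuotientGroup.mk_mul, QuotientGroup.mk_mul, QuotientGroup.mk_mul, QuotientGroup.mk_inv, QuotientGroup.mk_inv, ha,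
      ← hy]
    calc y * x * y⁻¹ * (y * s * y⁻¹) * (y * x * y⁻¹)⁻¹ * (y * s * y⁻¹)⁻¹ = y * (x * s) * (x⁻¹ * s⁻¹) * y⁻¹ := by group
      _ = y * (s * x) * (x⁻¹ * s⁻¹) * y⁻¹ := by rw [hc]
      _ = 1 := by group
  rw [QuotientGroup.eq_one_iff] at hac
  set c := a * r4 * a⁻¹ * r4⁻¹ with hcd
  have hc2 : c ^ 2 = 1 := CoFive.Ranks.sq_of_center hac
  have hr5 : r4 ^ 5 = 1 := by rw [← order_r4, pow_orderOf_eq_one]
  have hcr : a * r4 * a⁻¹ = c * r4 := by rw [hcd]; group
  have hcc : Commute c r4 := (mem_center_iff.1 hac r4).symm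
  have hc5 : c ^ 5 = 1 := by
    have h2 : (a * r4 * a⁻¹) ^ 5 = 1 := by rw [conj_pow, hr5]; group
    rw [hcr, hcc.mul_pow, hr5, mul_one] at h2
    exact h2
  have hc1 : c = 1 := by
    calc c = c ^ 5 * ((c ^ 2) ^ 2)⁻¹ := by group
      _ = 1 := by rw [hc5, hc2]; group
  rw [hc1, one_mul, mul_inv_eq_iff_eq_mul] at hcr
  refine no_comm_co0 ha3 hcr ?_
  have h5 : fr (QuotientGroup.mk a : Co1) = 1 := by
    rw [ha, LThreeMB.fr_conj, h1]
  rw [CoFive.FixRank.fr_eq (n := 3) (by decide) ha3] at h5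
  by_contra h6
  have h7 : 1 < 2 ^ finrank ℚ (fix (rep a)) := Nat.one_lt_two_pow h6
  omega

/-- **elements of order 5 of `Suz`** -/
theorem suz_five {G : Type*} [Group G] [Finite G] (h : Spor.IsoSuz G) {y : G} (hy : orderOf y = 5) :
    ¬ 3 ^ 3 ∣ Nat.card ↥(centralizer ({y} : Set G)) := by
  intro hk
  obtain ⟨e⟩ := h
  obtain ⟨e'⟩ := LThreeMB.CoOneFin.coOne.suz H800.ME.CoFacts.a H800.ME.CoFacts.orderOf_a H800.ME.CoFacts.fr_a1
  let E : G ≃* XX H800.ME.CoFacts.a := e.trans e'.symm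
  have h1 := hk.trans (cent_dvd E.toMonoidHom E.injective y)
  have h2 : orderOf (E y) = 5 := (MulEquiv.orderOf_eq E y).trans hy
  have hker : (QuotientGroup.mk' (Zx H800.ME.CoFacts.a)).ker = Zx H800.ME.CoFacts.a := QuotientGroup.ker_mk' _
  have hc3 : Nat.card ↥(QuotientGroup.mk' (Zx H800.ME.CoFacts.a)).ker = 3 := by
    rw [hker, Zx, Nat.card_zpowers]
    have h : (LThreeMB.self H800.ME.CoFacts.a : ↥(centralizer ({H800.ME.CoFacts.a} : Set Co1))) =
      ⟨H800.ME.CoFacts.a, mem_centralizer_singleton_iff.2 rfl⟩ := rfl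
    rw [h, Subgroup.orderOf_mk, H800.ME.CoFacts.orderOf_a]
  obtain ⟨x, hx, -, hd⟩ := cent_quot (QuotientGroup.mk' (Zx H800.ME.CoFacts.a)) (QuotientGroup.mk'_surjective _)
    (by
      rw [hker, Zx, zpowers_le]
      exact LThreeMB.self_mem_center _) Nat.prime_five (by
      rw [hc3]
      norm_num) h2
  have hxo : orderOf (x : Co1) = 5 := (Subgroup.orderOf_coe x).trans hx
  have hxc : H800.ME.CoFacts.a * (x : Co1) = x * H800.ME.CoFacts.a := (mem_centralizer_singleton_iff.1 x.2).symm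
  rw [hc3] at hd
  have h4 := ((Nat.mul_dvd_mul_right h1 3).trans hd).trans
    (cent_dvd (centralizer ({H800.ME.CoFacts.a} : Set Co1)).subtype (Subgroup.subtype_injective _) x)
  have h5 : 3 ^ 4 ∣ Nat.card ↥(centralizer ({(x : Co1)} : Set Co1)) := h4
  rcases CoFive.Ranks.ranks (x : Co1) hxo with h | h | h
  · obtain ⟨e⟩ := MFive.JTwo.isoJ2 hxo h
    have h6 : Nat.card Cfsg.Spor.J2 = 604800 := Cfsg.Agent.S1619.result.2.2.2
    rw [Cfsg.Agent.H55.CoOneBd.card_cent_XX, hxo, Nat.card_congr e.toEquiv, h6] at h5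
    revert h5
    norm_num
  · exact no_comm hxo h H800.ME.CoFacts.orderOf_a H800.ME.CoFacts.fr_a1 hxc
  · rw [MFiveHN.UpEight.card_cent hxo h] at h5
    revert h5
    norm_num

end Cfsg.Agent.H171.Odd.SuzFive
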