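import Cfsg.Agent.H171.Odd.BThree
import Cfsg.Agent.H171.Odd.Cert

/-!
# The row `B` (helper171)

`oddC_b_of` : from `Inv1 5 r B`, `r = 7, 11, 13, 31`.
-/

set_option autoImplicit false
set_option maxRecDepth 100000

namespace Cfsg.Agent.H171.Odd

open Cfsg Subgroup Cfsg.Agent.H553.OddHall

universe u

variable {G : Type u} [Group G] [Finite G] [IsSimpleGroup G]

omit [Finite G] [IsSimpleGroup G] in
theorem BThree.tab_b (h5 : ∀ {r : ℕ}, r ∈ [7, 11, 13, 31] → Inv1 5 r Spor.BabyMonster) (e : G ≃* Spor.BabyMonster) :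
    ∀ x ∈ [(3, 5), (3, 7), (3, 11), (3, 13), (3, 23), (3, 31), (5, 7), (5, 11), (5, 13), (5, 31)], Inv1 x.1 x.2 G := by
  intro x hx
  refine H573.Hall.Inv1.congr e ?_
  simp only [List.mem_cons, List.not_mem_nil, or_false] at hx
  rcases hx with rfl | rfl | rfl | rfl | rfl | rfl | rfl | rfl | rfl | rfl
  · exact inv_b3 (by simp)
  · exact inv_b3 (by simp)
  · exact inv_b3 (by simp)
  · exact inv_b3 (by simp)
  · exact inv_b3 (by simp)
  · exact inv_b3 (by simp)
  · exact h5 (by simp)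
  · exact h5 (by simp)
  · exact h5 (by simp)
  · exact h5 (by simp)

/-- **the row `B`** -/
theorem oddC_b_of (h5 : ∀ {r : ℕ}, r ∈ [7, 11, 13, 31] → Inv1 5 r Spor.BabyMonster) (h : Spor.IsoB G)
    (hnc : ¬ IsMulCommutative G) (hind : OddInd G) : OddC G := by
  obtain ⟨e⟩ := h
  have hc : Nat.card G = 4154781481226426191177580544000000 := by
    rw [Nat.card_congr e.toEquiv, BThree.card_b]
  refine oddC_of_cert hnc hind hc
    (L := [(3, 13), (5, 6), (7, 2), (11, 1), (13, 1), (17, 1), (19, 1), (23, 1), (31, 1), (47, 1)])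
    (T := [(3, 5), (3, 7), (3, 11), (3, 13), (3, 23), (3, 31), (5, 7), (5, 11), (5, 13), (5, 31)])
    (by
      simp only [List.mem_cons, List.not_mem_nil, or_false]
      rintro x (rfl | rfl | rfl | rfl | rfl | rfl | rfl | rfl | rfl | rfl) <;> norm_num)
    (BThree.tab_b h5 e) (by decide +kernel)

end Cfsg.Agent.H171.Odd
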