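import Cfsg.Agent.H171.Odd.BThreeB
import Cfsg.Agent.H171.Odd.SuzFive
import Cfsg.Agent.H553.BThreeFi

/-!
# The Baby Monster, `p = 3` (helper171)

`inv_b3` : `Inv1 3 r B` for `r = 5, 7, 11, 13, 23, 31`.
-/

set_option autoImplicit false

namespace Cfsg.Agent.H171.Odd.BThree

open Subgroup Cfsg Cfsg.Agent.H171.Odd Cfsg.Agent.BpSpor
open Cfsg.Agent.MonsterU Cfsg.Agent.LThree Cfsg.Agent.LThreeMB Cfsg.Agent.LThreeB
open Cfsg.Agent.MonsterX Cfsg.Agent.MonsterX.InstData Cfsg.Agent.MonsterX.MainPack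
open Cfsg.Agent.MonsterP Cfsg.Agent.MonsterN

theorem three : Three := by
  have := Row.finite_model
  have := Row.simple_model
  intro x v hx hfr hv hvx hn
  exact H553.BThreeFi.three_fi (KChart.chart KDone.lft LThreeB.Row.cent) CoOneFin.coOne hx hfr hv hvx hn

/-- **`Inv1 3 r` for the Baby Monster** -/
theorem inv_b3 {r : ℕ} (hr : r ∈ [5, 7, 11, 13, 23, 31]) : Inv1 3 r Spor.BabyMonster := by
  have hf : Finite Spor.Suz := Nat.finite_of_card_ne_zero (by rw [Cfsg.Agent.S1694.result.2]; norm_num)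
  exact inv_b_of three (fun s hs => SuzFive.suz_five ⟨MulEquiv.refl _⟩ hs) hr

end Cfsg.Agent.H171.Odd.BThree
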