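import Cfsg.Agent.H573.Hall.RadInv
import Cfsg.Agent.H171.Odd.Quot

/-!
# Centralizers of `r`-elements in the situation `Rad` (helper171)

`D = N C_D(z)`, `C_N(z) = ⟨x⟩`, `z` a square: there is no element `y` of prime order `r` of `D` commuting with a big
`p`-subgroup.
-/

set_option autoImplicit false

namespace Cfsg.Agent.H171.Odd

open Subgroup Cfsg Cfsg.Agent.BpSpor.M5 Cfsg.Agent.H573.Hall.RadInv

universe u v

/-- an element `y` of order `r` normalising a `p`-group `S` centralises it if `|C_S(y)|` is large -/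
theorem le_cent_of_card {G : Type*} [Group G] [Finite G] {p r b a : ℕ} (hp : p.Prime) (hr : r.Prime) (hrp : r ≠ p)
    {y : G} (hy : orderOf y = r) {S : Subgroup G} (hn : y ∈ normalizer (S : Set G)) (hS : IsPGroup p ↥S)
    (hb : Nat.card ↥S ∣ p ^ b) (ha : p ^ a ∣ Nat.card ↥(S ⊓ centralizer ({y} : Set G)))
    (hnum : ∀ j, 1 ≤ j → j + a ≤ b → ¬ r ∣ p ^ j - 1) : S ≤ centralizer ({y} : Set G) := by
  have hpF : Fact p.Prime := ⟨hp⟩
  have hrF : Fact r.Prime := ⟨hr⟩
  have hle : S ⊓ centralizer ({y} : Set G) ≤ S := inf_le_left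
  obtain ⟨b', hb'⟩ := hS.exists_card_eq
  obtain ⟨d, hd⟩ := (hS.to_le hle).exists_card_eq
  have h1 : d ≤ b' := by
    have h2 := card_dvd_of_le hle
    rw [hb', hd] at h2
    exact (Nat.pow_dvd_pow_iff_le_right hp.one_lt).1 h2
  have h2 : b' ≤ b := by
    rw [hb'] at hb
    exact (Nat.pow_dvd_pow_iff_le_right hp.one_lt).1 hb
  have h3 : a ≤ d := by
    rw [hd] at ha
    exact (Nat.pow_dvd_pow_iff_le_right hp.one_lt).1 ha
  by_cases hbd : b' = d
  · have h4 : S ⊓ centralizer ({y} : Set G) = S := eq_of_le_of_card_ge hle (by rw [hb', hd, hbd])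
    exact inf_eq_left.1 h4
  exfalso
  have hzn : zpowers y ≤ normalizer (S : Set G) := by rwa [zpowers_le]
  have hzn1 : zpowers y ≤ normalizer ((S ⊓ centralizer ({y} : Set G) : Subgroup G) : Set G) := by
    rw [zpowers_le, mem_normalizer_iff]
    intro s
    rw [mem_inf, mem_inf, mem_centralizer_singleton_iff, mem_centralizer_singleton_iff]
    have h5 : (s ∈ S ↔ y * s * y⁻¹ ∈ S) := mem_normalizer_iff.1 hn s
    rw [← h5]
    refine and_congr_right fun _ => ⟨fun h => ?_, fun h => ?_⟩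
    · rw [show y * s * y⁻¹ = s by rw [← h]; group, h]
    · have h6 : y * s * y⁻¹ * y = y * s := by group
      rw [h6] at h
      have h7 : y * (s * y) = y * (y * s) := by
        calc y * (s * y) = y * s * y := (mul_assoc _ _ _).symm
          _ = y * (y * s * y⁻¹) * y := by rw [← h]
          _ = y * (y * s) := by group
      exact mul_left_cancel h7
  have hcard : Nat.card ↥(zpowers y) = r := by rw [Nat.card_zpowers, hy]
  obtain ⟨u, hu, hu1, hdv⟩ := exists_small_orbit (s := r) (w := 0) (S := zpowers y) (R := S)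
    (R1 := S ⊓ centralizer ({y} : Set G)) (IsPGroup.of_card (n := 1) (by rw [hcard, pow_one])) hzn hzn1 hle (by
    rw [zero_add, hb', hd]
    refine not_dvd_diff hr hp hrp h1 ?_
    rw [zero_add, pow_one]
    exact hnum (b' - d) (by omega) (by omega))
  rw [pow_zero, mul_one] at hdv
  apply hu1
  have h5 : zpowers y ⊓ centralizer ({u} : Set G) = zpowers y :=
    eq_of_le_of_card_ge inf_le_left (Nat.le_of_dvd Nat.card_pos hdv)
  have h6 : y ∈ centralizer ({u} : Set G) := inf_eq_left.1 h5 (mem_zpowers y)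
  exact ⟨hu, mem_centralizer_singleton_iff.2 (mem_centralizer_singleton_iff.1 h6).symm⟩

variable {D : Type u} [Group D] [Finite D] {p : ℕ} [hp : Fact p.Prime] {z x : D} {N : Subgroup D} {A : Type v} [Group A]
  [hA : IsSimpleGroup A] {f : ↥(centralizer ({z} : Set D)) →* A}

omit hA in
theorem not_mem_of_inv1 (h : Rad p z x N f) (hp2 : p ≠ 2) {r : ℕ} (hr : r.Prime) (hinv : Inv1 p r D) {y : D}
    (hy : orderOf y = r) : y ∉ N := by
  have hrF : Fact r.Prime := ⟨hr⟩
  have hN := h.nN
  intro hyN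
  have hnil : Group.IsNilpotent ↥N := h.isNilpotent hp2
  obtain ⟨P⟩ : Nonempty (Sylow r ↥N) := inferInstance
  have hPn : (P : Subgroup ↥N).Normal := inferInstance
  have hPc : (P : Subgroup ↥N).Characteristic := Sylow.characteristic_of_normal P hPn
  let V : Subgroup D := (P : Subgroup ↥N).map N.subtype
  have hVn : V.Normal := ConjAct.normal_of_characteristic_of_normal
  have hVp : IsPGroup r ↥V := P.isPGroup'.map _
  have hyV : y ∈ V := by
    have h0 : IsPGroup r ↥(zpowers y) := IsPGroup.of_card (n := 1) (by rw [Nat.card_zpowers, hy, pow_one])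
    have h1 : IsPGroup r ↥((zpowers y).subgroupOf N) := h0.comap_of_injective N.subtype N.subtype_injective
    obtain ⟨P', hP'⟩ := h1.exists_le_sylow
    have : Subsingleton (Sylow r ↥N) := by
      have := Sylow.unique_of_normal P hPn
      infer_instance
    rw [Subsingleton.elim P' P] at hP'
    exact ⟨⟨y, hyN⟩, hP' (mem_subgroupOf.2 (mem_zpowers y)), rfl⟩
  obtain ⟨S⟩ : Nonempty (Sylow p D) := inferInstance
  have h1 := hinv (S : Subgroup D) S.2 S.not_dvd_index V hVp (by rw [normalizer_eq_top]; exact le_top)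
  rw [h1, mem_bot] at hyV
  rw [hyV, orderOf_one] at hy
  exact hr.one_lt.ne hy

/-- **no element of order `r` commutes with a big `p`-subgroup** -/
theorem no_cent (h : Rad p z x N f) (hAc : ¬ Group.IsSolvable A) (hp2 : p ≠ 2) {k : ↥(centralizer ({z} : Set D))}
    (hk : (k : D) * k = z) {r : ℕ} (hr : r.Prime) (hr2 : r ≠ 2) (hrp : r ≠ p) (hinv : Inv1 p r D) {n m a c : ℕ}
    (hD : ¬ p ^ (n + 1) ∣ Nat.card D) (hAm : p ^ m ∣ Nat.card A)
    (hcA : ∀ s : A, orderOf s = r → ¬ p ^ (c + 1) ∣ Nat.card ↥(centralizer ({s} : Set A))) {y : D} (hy : orderOf y = r)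
    {T : Subgroup D} (hT : IsPGroup p ↥T) (hTy : T ≤ centralizer ({y} : Set D)) (hTc : p ^ a ∣ Nat.card ↥T)
    (hac : c + 2 ≤ a) (hnum : ∀ j, 1 ≤ j → j + a + m ≤ n + c → ¬ r ∣ p ^ j - 1) : False := by
  have hN := h.nN
  obtain ⟨ψ, hψ, hψf, hψN, hψk⟩ := exists_map h hAc
  have hfA : Finite A := Finite.of_surjective ψ hψ
  have hyN : y ∉ N := not_mem_of_inv1 h hp2 hr hinv hy
  have hyr : y ^ r = 1 := by rw [← hy, pow_orderOf_eq_one]
  have hψy : ψ y ≠ 1 := fun h1 => hyN (mem_of_odd h (hψk y h1) (hr.odd_of_ne_two hr2) hyr)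
  have hψo : orderOf (ψ y) = r := by
    have hrF : Fact r.Prime := ⟨hr⟩
    exact orderOf_eq_prime (by rw [← map_pow, hyr, map_one]) hψy
  -- the image of `T`
  have hTm : T.map ψ ≤ centralizer ({ψ y} : Set A) := by
    rintro _ ⟨t, ht, rfl⟩
    rw [mem_centralizer_singleton_iff, ← map_mul, mem_centralizer_singleton_iff.1 (hTy ht), map_mul]
  obtain ⟨j, hj⟩ := (hT.map ψ).exists_card_eq
  have hjc : j ≤ c := by
    by_contra h1
    apply hcA _ hψo
    refine (pow_dvd_pow p (by omega : c + 1 ≤ j)).trans ?_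
    rw [← hj]
    exact card_dvd_of_le hTm
  obtain ⟨t, htc⟩ := hT.exists_card_eq
  have hta : a ≤ t := by
    rw [htc] at hTc
    exact (Nat.pow_dvd_pow_iff_le_right hp.out.one_lt).1 hTc
  obtain ⟨i, hi⟩ := (hT.to_le (inf_le_left : T ⊓ N ≤ T)).exists_card_eq
  have hti : t ≤ i + j := by
    let g : ↥T →* A := ψ.comp T.subtype
    have h3 : Nat.card ↥T = Nat.card ↥g.ker * Nat.card ↥(T.map ψ) := by
      have h3' : g.range = T.map ψ := by
        ext a
        constructor
        · rintro ⟨t, rfl⟩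
          exact ⟨t, t.2, rfl⟩
        · rintro ⟨t, ht, rfl⟩
          exact ⟨⟨t, ht⟩, rfl⟩
      rw [← g.ker.card_mul_index, Subgroup.index_ker, h3']
    have h4 : Nat.card ↥g.ker ∣ Nat.card ↥(T ⊓ N) := by
      rw [← card_map_of_injective (K := g.ker) T.subtype_injective]
      apply card_dvd_of_le
      rintro _ ⟨t, ht, rfl⟩
      refine ⟨t.2, ?_⟩
      obtain ⟨l, hl⟩ := hT t
      exact mem_of_odd h (hψk _ ht) ((hp.out.odd_of_ne_two hp2).pow (n := l)) (congrArg Subtype.val hl)
    have h5 := Nat.mul_dvd_mul_right h4 (Nat.card ↥(T.map ψ))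
    rw [← h3, htc, hi, hj, ← pow_add] at h5
    exact (Nat.pow_dvd_pow_iff_le_right hp.out.one_lt).1 h5
  -- the Sylow subgroup of `N`
  obtain ⟨S, hS, hSp, hSN, hxS, hcard⟩ := h.exists_sylow hp2
  obtain ⟨b, hb⟩ := hSp.exists_card_eq
  have hTS : T ⊓ N ≤ S := by
    have h1 : IsPGroup p ↥((T ⊓ N) ⊔ S : Subgroup D) :=
      (hT.to_le (inf_le_left : T ⊓ N ≤ T)).to_sup_of_normal_right hSp
    obtain ⟨l, hl⟩ := h1.exists_card_eq
    have h2 : (T ⊓ N) ⊔ S ≤ N := sup_le inf_le_right hSN
    have h3 := hcard l (hl ▸ card_dvd_of_le h2)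
    have h4 : S = (T ⊓ N) ⊔ S := eq_of_le_of_card_ge le_sup_right (by
      rw [hl]
      exact Nat.le_of_dvd Nat.card_pos h3)
    rw [h4]
    exact le_sup_left
  have hbn : b + m ≤ n := by
    by_contra h1
    apply hD
    refine (pow_dvd_pow p (by omega : n + 1 ≤ b + m)).trans ?_
    obtain ⟨l, -, hl⟩ := h.card_N_mul hAc
    rw [hl, ← mul_assoc, pow_add]
    refine Dvd.dvd.mul_right (Nat.mul_dvd_mul ?_ hAm) l
    rw [← hb]
    exact card_dvd_of_le hSN
  have hSy : T ⊓ N ≤ S ⊓ centralizer ({y} : Set D) := le_inf hTS (inf_le_left.trans hTy)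
  have hScy : S ≤ centralizer ({y} : Set D) := by
    refine le_cent_of_card hp.out hr hrp hy (b := b) (a := a - c) ?_ hSp (by rw [hb]) ?_ ?_
    · rw [normalizer_eq_top]
      trivial
    · refine (pow_dvd_pow p (by omega : a - c ≤ i)).trans ?_
      rw [← hi]
      exact card_dvd_of_le hSy
    · intro l hl1 hl2
      exact hnum l hl1 (by omega)
  have hyS : y ∈ centralizer (S : Set D) := by
    rw [mem_centralizer_iff]
    intro s hs
    exact mem_centralizer_singleton_iff.1 (hScy hs)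
  by_cases hsol : Group.IsSolvable ↥(centralizer (S : Set D))
  · -- `C_D(S)` maps to 1
    have hCn : (centralizer (S : Set D)).Normal := inferInstance
    have h1 : (centralizer (S : Set D)).map ψ = ⊥ := by
      rcases (hCn.map ψ hψ).eq_bot_or_eq_top with h2 | h2
      · exact h2
      · exfalso
        apply hAc
        have h3 : Group.IsSolvable ↥((centralizer (S : Set D)).map ψ) :=
          Group.isSolvable_of_surjective (ψ.subgroupMap_surjective _)
        rw [h2] at h3
        exact Group.isSolvable_of_surjective (f := (Subgroup.topEquiv (G := A)).toMonoidHom)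
          (Subgroup.topEquiv (G := A)).surjective
    apply hψy
    have h2 : ψ y ∈ (centralizer (S : Set D)).map ψ := mem_map_of_mem ψ hyS
    rwa [h1, mem_bot] at h2
  · obtain ⟨c', hc, n', hn, hz⟩ := h.z_mem_sup hp2 hk (centralizer (S : Set D)) hsol
    -- `z` centralizes `S`
    have h1 : S ≤ zpowers x := by
      intro s hs
      obtain ⟨i, hi⟩ := h.comm hp2 hn (hSN hs)
      have h2 : s * x ^ i ∈ S := S.mul_mem hs (S.zpow_mem hxS i)
      have h3 : z * s * z⁻¹ = s * x ^ i := by
        rw [hz]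
        calc c' * n' * s * (c' * n')⁻¹ = c' * (n' * s * n'⁻¹) * c'⁻¹ := by group
          _ = c' * (s * x ^ i) * c'⁻¹ := by rw [hi]
          _ = (s * x ^ i) * c' * c'⁻¹ := by rw [← mem_centralizer_iff.1 hc _ h2]
          _ = _ := by group
      rw [h.cent_of_mod hp2 h.zz h3, mul_one, mul_inv_eq_iff_eq_mul] at h3
      exact h.cN s (hSN hs) h3.symm
    have h2 : p ^ 2 ∣ p := by
      refine (pow_dvd_pow p (by omega : 2 ≤ i)).trans ?_
      rw [← hi]
      refine (card_dvd_of_le (hTS.trans h1)).trans ?_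
      rw [Nat.card_zpowers, h.ox]
    have h3 := Nat.le_of_dvd hp.out.pos h2
    have h4 := hp.out.two_le
    nlinarith

end Cfsg.Agent.H171.Odd
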