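import Cfsg.Agent.H573.Hall.MThree
import Cfsg.Agent.H171.Odd.RadCent
import Cfsg.Agent.H171.Odd.ConwayB

/-!
# The Baby Monster, `p = 3`: the four fixed ranks (helper171)

* `Big r x v` : a 3-group of order divisible by `3 ^ 12` in `C(x) ∩ C(v) ∩ C(y)`, `y ∈ C(x)` of order `r`;
* `not_big` : there is none, for `x` of order 3 in `C(z)` and `v` an involution not conjugate to `z`;
* `not_five` : `5 ^ 6` does not divide `|C(x)|`.
-/

set_option autoImplicit false

namespace Cfsg.Agent.H171.Odd.BThree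

open Subgroup Cfsg Cfsg.Agent.H171.Odd Cfsg.Agent.BpSpor.M5
open Cfsg.Agent.MonsterU Cfsg.Agent.LThree Cfsg.Agent.LThreeMB
open Cfsg.Agent.MonsterU.Ch
open Cfsg.Agent.MonsterU.Lam2 (L2 IsType)
open Cfsg.Agent.H411.MThree (iso_of_rank card_cent)
open Cfsg.Spor (Co1)
open Cfsg.Agent.H573.Hall (MThr.inv_cent MThr.suz_facts RadInv.exists_map)

universe u

local instance : Fact (Nat.Prime 3) := ⟨Nat.prime_three⟩

/-- a big 3-group commuting with `x`, `v` and an element of order `r` -/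
def Big {G : Type u} [Group G] (r : ℕ) (x v : G) : Prop :=
  ∃ (T : Subgroup G) (y : G), IsPGroup 3 ↥T ∧ 3 ^ 12 ∣ Nat.card ↥T ∧ orderOf y = r ∧ y * x = x * y ∧
    T ≤ centralizer ({x} : Set G) ∧ T ≤ centralizer ({v} : Set G) ∧ T ≤ centralizer ({y} : Set G)

theorem map_conj_le {G : Type u} [Group G] {T : Subgroup G} {x : G} (h : T ≤ centralizer ({x} : Set G)) (g : G) :
    T.map (MulAut.conj g).toMonoidHom ≤ centralizer ({g * x * g⁻¹} : Set G) := by
  rintro _ ⟨t, ht, rfl⟩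
  have h1 := mem_centralizer_singleton_iff.1 (h ht)
  rw [mem_centralizer_singleton_iff]
  show g * t * g⁻¹ * (g * x * g⁻¹) = g * x * g⁻¹ * (g * t * g⁻¹)
  calc g * t * g⁻¹ * (g * x * g⁻¹) = g * (t * x) * g⁻¹ := by group
    _ = g * (x * t) * g⁻¹ := by rw [h1]
    _ = _ := by group

theorem Big.conj {G : Type u} [Group G] {r : ℕ} {x v : G} (h : Big r x v) (g : G) :
    Big r (g * x * g⁻¹) (g * v * g⁻¹) := by
  obtain ⟨T, y, h1, h2, h3, h4, h5, h6, h7⟩ := h
  refine ⟨T.map (MulAut.conj g).toMonoidHom, g * y * g⁻¹, h1.map _, ?_, ?_, ?_, map_conj_le h5 g, map_conj_le h6 g,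
    map_conj_le h7 g⟩
  · rwa [card_map_of_injective (MulAut.conj g).injective]
  · rw [← h3]
    exact MulEquiv.orderOf_eq (MulAut.conj g) y
  · calc g * y * g⁻¹ * (g * x * g⁻¹) = g * (y * x) * g⁻¹ := by group
      _ = g * (x * y) * g⁻¹ := by rw [h4]
      _ = _ := by group

section chart

variable {G : Type u} [Group G] {Q : Subgroup G} {z : G} {eta : G → L2}
  {pi : Subgroup.centralizer ({z} : Set G) →* Co1}

/-- fixed rank 0 -/
theorem not_big_zero [Finite G] (h : Chart Q z eta pi) (I : CoOne) (ht : TrNe z pi)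
    {x : Subgroup.centralizer ({z} : Set G)} (hx : orderOf x = 3) (hfr : fr (pi x) = 1) {k : G}
    (hkx : k * (x : G) = x * k) (hkk : k * k = z) {r c : ℕ} (hr : r.Prime) (hr2 : r ≠ 2) (hr3 : r ≠ 3)
    (hinv : Inv1 3 r ↥(centralizer ({(x : G)} : Set G))) (hD : ¬ 3 ^ 21 ∣ Nat.card G)
    (hcA : ∀ s : Spor.Suz, orderOf s = r → ¬ 3 ^ (c + 1) ∣ Nat.card ↥(centralizer ({s} : Set Spor.Suz)))
    (hc : c ≤ 10) (hnum : ∀ j, 1 ≤ j → j ≤ 1 + c → ¬ r ∣ 3 ^ j - 1) (v : G) : ¬ Big r (x : G) v := by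
  rintro ⟨T, y, hT, hTc, hy, hyx, hTx, -, hTy⟩
  have hS := I.suz _ (orderOf_pi h hx) hfr
  obtain ⟨f1, f2, f3⟩ := MThr.suz_facts hS
  obtain ⟨N, hN⟩ := BpSpor.M5.exists_rad h (by norm_num) hx hfr (fun d hd hc => isolated h ht hx hfr d hd hc) f1
    (by rw [f2]; decide)
  have hkz : k * z = z * k := by rw [← hkk, mul_assoc]
  obtain ⟨e⟩ := hS
  refine no_cent hN f3 (by norm_num) (k := ⟨⟨k, mem_centralizer_singleton_iff.2 hkx⟩, mem_centralizer_singleton_iff.2
    (Subtype.ext hkz)⟩) (Subtype.ext hkk) hr hr2 hr3 hinv (n := 20) (m := 7) (a := 12) (c := c)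
    (fun h1 => hD (h1.trans (card_subgroup_dvd_card _))) (by rw [f2]; norm_num) ?_
    (y := ⟨y, mem_centralizer_singleton_iff.2 hyx⟩) ?_ (T := T.subgroupOf (centralizer ({(x : G)} : Set G)))
    (hT.comap_of_injective _ (subtype_injective _)) ?_ ?_ (by omega) ?_
  · intro s hs hd
    have : Finite (XX (pi x)) := Nat.finite_of_card_ne_zero (by rw [f2]; norm_num)
    refine hcA (e s) ((MulEquiv.orderOf_eq e s).trans hs) (hd.trans ?_)
    exact cent_dvd e.toMonoidHom e.injective s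
  · rw [← Subgroup.orderOf_coe]
    exact hy
  · intro t ht
    rw [mem_centralizer_singleton_iff]
    exact Subtype.ext (mem_centralizer_singleton_iff.1 (hTy (mem_subgroupOf.1 ht)))
  · rw [Nat.card_congr (subgroupOfEquivOfLe hTx).toEquiv]
    exact hTc
  · intro j h1 h2
    exact hnum j h1 (by omega)

/-- fixed rank 8 -/
theorem not_big_eight [Finite G] [IsSimpleGroup G] (h : Chart Q z eta pi) (I : CoOne) {r : ℕ}
    {x : Subgroup.centralizer ({z} : Set G)} (hx : orderOf x = 3) (hfr : fr (pi x) = 2 ^ 8) (v : G) :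
    ¬ Big r (x : G) v := by
  rintro ⟨T, y, hT, hTc, -, -, hTx, -, -⟩
  obtain ⟨e⟩ := (iso_of_rank h I hx).1 hfr
  have h2 := card_cent ((Subgroup.orderOf_coe x).trans hx) ((Nat.card_congr e.toEquiv).trans Cfsg.Agent.S1700.result.2)
  have h3 := hTc.trans (card_dvd_of_le hTx)
  rw [h2] at h3
  revert h3
  norm_num

/-- **the four ranks** -/
theorem not_big [Finite G] [IsSimpleGroup G] (h : Chart Q z eta pi) (I : CoOne) (ht : TrNe z pi) (hpair : HasPair z pi)
    {r : ℕ}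
    (h0 : ∀ (x : Subgroup.centralizer ({z} : Set G)) (v : G), orderOf x = 3 → fr (pi x) = 1 → ¬ Big r (x : G) v)
    (h12 : ∀ (x : Subgroup.centralizer ({z} : Set G)) (v : G), orderOf x = 3 → fr (pi x) = 2 ^ 12 → orderOf v = 2 →
      v * (x : G) = x * v → (∀ g : G, g * v * g⁻¹ ≠ z) →
      ¬ 3 ^ 12 ∣ Nat.card ↥(centralizer ({(x : G)} : Set G) ⊓ centralizer ({v} : Set G)))
    {x : Subgroup.centralizer ({z} : Set G)} (hx : orderOf x = 3) {v : G} (hv : orderOf v = 2)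
    (hvx : v * (x : G) = x * v) (hn : ∀ g : G, g * v * g⁻¹ ≠ z) : ¬ Big r (x : G) v := by
  rcases I.ranks _ (orderOf_pi h hx) with hfr | hfr | hfr | hfr
  · exact h0 x v hx hfr
  · intro hb
    obtain ⟨x₀, u, g, hx₀, hfr₀, huz, hux, hne, hg⟩ := id hpair
    obtain ⟨k, hk⟩ := conj_six h ht I.ranks I.six (fun x hx h2 => ⟨(good_of_inputs.{u} h I hx h2).simple,
      (good_of_inputs.{u} h I hx h2).nc⟩) hx₀ hfr₀ huz hux hne hg hx hfr
    have h1 := hb.conj k
    rw [hk] at h1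
    exact h0 x₀ _ hx₀ hfr₀ h1
  · exact not_big_eight h I hx hfr v
  · rintro ⟨T, y, hT, hTc, -, -, hTx, hTv, -⟩
    exact h12 x v hx hfr hv hvx hn (hTc.trans (card_dvd_of_le (le_inf hTx hTv)))

/-- fixed rank 0: the 5-part -/
theorem not_five_zero [Finite G] (h : Chart Q z eta pi) (I : CoOne) (ht : TrNe z pi)
    {x : Subgroup.centralizer ({z} : Set G)} (hx : orderOf x = 3) (hfr : fr (pi x) = 1)
    (hinv : Inv1 3 5 ↥(centralizer ({(x : G)} : Set G))) : ¬ 5 ^ 6 ∣ Nat.card ↥(centralizer ({(x : G)} : Set G)) := by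
  have hS := I.suz _ (orderOf_pi h hx) hfr
  obtain ⟨f1, f2, f3⟩ := MThr.suz_facts hS
  obtain ⟨N, hN⟩ := BpSpor.M5.exists_rad h (by norm_num) hx hfr (fun d hd hc => isolated h ht hx hfr d hd hc) f1
    (by rw [f2]; decide)
  obtain ⟨m, hm, hc⟩ := hN.card_N_mul f3
  have h5 : Fact (Nat.Prime 5) := ⟨Nat.prime_five⟩
  have h1 : ¬ 5 ∣ Nat.card ↥N := by
    intro hd
    obtain ⟨y, hy⟩ := exists_prime_orderOf_dvd_card' 5 hd
    exact not_mem_of_inv1 hN (by norm_num) Nat.prime_five hinv (y := (y : ↥(centralizer ({(x : G)} : Set G))))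
      ((Subgroup.orderOf_coe y).trans hy) y.2
  rw [hc]
  intro hd
  have h2 := (Nat.Coprime.pow_left 6 ((Nat.Prime.coprime_iff_not_dvd Nat.prime_five).2 h1)).dvd_of_dvd_mul_left hd
  rw [f2] at h2
  have h3 := h2.trans (Nat.mul_dvd_mul_left _ hm)
  revert h3
  norm_num

/-- the 5-part of `C(x)` -/
theorem not_five [Finite G] [IsSimpleGroup G] (h : Chart Q z eta pi) (I : CoOne) (ht : TrNe z pi) (hpair : HasPair z pi)
    (hinv : ∀ (x : Subgroup.centralizer ({z} : Set G)), orderOf x = 3 → fr (pi x) = 1 →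
      Inv1 3 5 ↥(centralizer ({(x : G)} : Set G)))
    {x : Subgroup.centralizer ({z} : Set G)} (hx : orderOf x = 3) :
    ¬ 5 ^ 6 ∣ Nat.card ↥(centralizer ({(x : G)} : Set G)) := by
  rcases I.ranks _ (orderOf_pi h hx) with hfr | hfr | hfr | hfr
  · exact not_five_zero h I ht hx hfr (hinv x hx hfr)
  · obtain ⟨x₀, u, g, hx₀, hfr₀, huz, hux, hne, hg⟩ := id hpair
    obtain ⟨k, hk⟩ := conj_six h ht I.ranks I.six (fun x hx h2 => ⟨(good_of_inputs.{u} h I hx h2).simple,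
      (good_of_inputs.{u} h I hx h2).nc⟩) hx₀ hfr₀ huz hux hne hg hx hfr
    obtain ⟨⟨e⟩, -⟩ := LThreeMB.exists_XX_equiv hk
    rw [Nat.card_congr e.toEquiv]
    exact not_five_zero h I ht hx₀ hfr₀ (hinv x₀ hx₀ hfr₀)
  · obtain ⟨e⟩ := (iso_of_rank h I hx).1 hfr
    have h2 := card_cent ((Subgroup.orderOf_coe x).trans hx) ((Nat.card_congr e.toEquiv).trans Cfsg.Agent.S1700.result.2)
    rw [h2]
    norm_num
  · obtain ⟨e⟩ := (iso_of_rank h I hx).2 hfr
    have h2 := card_cent ((Subgroup.orderOf_coe x).trans hx) ((Nat.card_congr e.toEquiv).trans Cfsg.Agent.S1698.result.2)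
    rw [h2]
    norm_num

end chart

end Cfsg.Agent.H171.Odd.BThree
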