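import Cfsg.Agent.H171.Odd.BThreeA
import Cfsg.Agent.BpSpor.BFiveAsm
import Cfsg.Agent.CpAutBFive.RowB

/-!
# The Baby Monster, `p = 3` (helper171)

`inv_b_of` : `Inv1 3 r B`, `r = 5, 7, 11, 13, 23, 31`, from the centralizers of the 2-central involutions of `3 . Fi24'` and
the centralizers of the elements of order 5 of `Suz`.
-/

set_option autoImplicit false
set_option maxRecDepth 100000

namespace Cfsg.Agent.H171.Odd.BThree

open Subgroup Cfsg Cfsg.Agent.H171.Odd Cfsg.Agent.BpSpor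
open Cfsg.Agent.MonsterU Cfsg.Agent.LThree Cfsg.Agent.LThreeMB Cfsg.Agent.LThreeB
open Cfsg.Agent.MonsterU.Ch
open Cfsg.Agent.MonsterU.Lam2 (L2)
open Cfsg.Spor (Co1)
open Cfsg.Agent.H573.Hall (MThr.inv_cent MThr.suz_facts)
open Cfsg.Agent.MonsterX Cfsg.Agent.MonsterX.InstData Cfsg.Agent.MonsterX.MainPack
open Cfsg.Agent.MonsterP Cfsg.Agent.MonsterN
open Cfsg.Agent.MonsterX.MainBasic Cfsg.Agent.MonsterX.MainSimple Cfsg.Agent.MonsterX.Model
open Cfsg.Agent.CpAutBFive

local instance : Fact (Nat.Prime 3) := ⟨Nat.prime_three⟩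

/-! ### Generalities -/

/-- an element of order `t` of `R` with a large centralizer in `S` -/
theorem exists_cent_of_card {G : Type*} [Group G] [Finite G] {s t k w : ℕ} [hs : Fact s.Prime] [ht : Fact t.Prime]
    {R : Subgroup G} (hc : Nat.card ↥R = t ^ k) (hw : ¬ s ^ (w + 1) ∣ t ^ k - 1)
    {S : Subgroup G} (hS : IsPGroup s S) (hn : S ≤ normalizer (R : Set G)) :
    ∃ y ∈ R, orderOf y = t ∧ Nat.card S ∣ Nat.card ↥(S ⊓ centralizer ({y} : Set G)) * s ^ w := by
  have hR : IsPGroup t ↥R := IsPGroup.of_card hc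
  have h1 : ¬ s ^ (w + 1) ∣ Nat.card R - Nat.card (⊥ : Subgroup G) := by
    rw [hc, card_bot]
    exact hw
  obtain ⟨y, hyR, hy1, hy⟩ := exists_small_orbit hS hn (by rw [normalizer_eq_top_iff.2 inferInstance]; exact le_top)
    bot_le h1
  have hy1 : y ≠ 1 := fun h => hy1 (h ▸ one_mem _)
  obtain ⟨n, hn'⟩ := hR ⟨y, hyR⟩
  have hyn : y ^ t ^ n = 1 := by simpa using congrArg Subtype.val hn'
  obtain ⟨m, -, hm⟩ := (Nat.dvd_prime_pow ht.out).1 (orderOf_dvd_of_pow_eq_one hyn)
  have hm0 : m ≠ 0 := by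
    rintro rfl
    rw [pow_zero] at hm
    exact hy1 (orderOf_eq_one_iff.1 hm)
  refine ⟨y ^ t ^ (m - 1), R.pow_mem hyR _, ?_, hy.trans (Nat.mul_dvd_mul_right ?_ _)⟩
  · rw [orderOf_pow' y (pow_ne_zero _ ht.out.ne_zero), hm, Nat.gcd_eq_right (pow_dvd_pow t (by omega)),
      Nat.pow_div (by omega) ht.out.pos, show m - (m - 1) = 1 by omega, pow_one]
  · apply card_dvd_of_le
    refine inf_le_inf le_rfl fun g hg => ?_
    rw [mem_centralizer_singleton_iff] at hg ⊢
    exact (show Commute g y from hg).pow_right _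

/-- a nontrivial `p`-group has a central element of order `p` -/
theorem exists_central {G : Type*} [Group G] [Finite G] {p a : ℕ} [hp : Fact p.Prime] {T : Subgroup G}
    (hT : IsPGroup p ↥T) (hc : p ^ a ∣ Nat.card ↥T) (ha : a ≠ 0) :
    ∃ x ∈ T, orderOf x = p ∧ T ≤ centralizer ({x} : Set G) := by
  have hTn : Nontrivial ↥T := by
    rw [← Finite.one_lt_card_iff_nontrivial]
    exact (Nat.one_lt_pow ha hp.out.one_lt).trans_le (Nat.le_of_dvd Nat.card_pos hc)
  have h1 : Nontrivial ↥(center ↥T) := hT.center_nontrivial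
  have h2 : IsPGroup p ↥(center ↥T) := hT.to_subgroup _
  obtain ⟨n, hn0, hn⟩ := (IsPGroup.nontrivial_iff_card h2).1 h1
  have h3 : p ∣ Nat.card ↥(center ↥T) := by
    rw [hn]
    exact dvd_pow_self p hn0.ne'
  obtain ⟨x, hx⟩ := exists_prime_orderOf_dvd_card' p h3
  refine ⟨((x : ↥T) : G), (x : ↥T).2, ?_, ?_⟩
  · rw [Subgroup.orderOf_coe, Subgroup.orderOf_coe, hx]
  · intro t ht
    rw [mem_centralizer_singleton_iff]
    exact congrArg Subtype.val (mem_center_iff.1 x.2 ⟨t, ht⟩)

/-! ### The model -/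

/-- the Fischer case -/
def Three : Prop := ∀ (x : Subgroup.centralizer ({KDone.K.z} : Set ↥InstData.M.G)) (v : ↥InstData.M.G), orderOf x = 3 →
  fr (KChart.pi Row.cent x) = 2 ^ 12 → orderOf v = 2 → v * (x : ↥InstData.M.G) = x * v →
  (∀ g : ↥InstData.M.G, g * v * g⁻¹ ≠ KDone.K.z) →
  ¬ 3 ^ 12 ∣ Nat.card ↥(centralizer ({(x : ↥InstData.M.G)} : Set ↥InstData.M.G) ⊓
    centralizer ({v} : Set ↥InstData.M.G))

/-- `Inv1 3 r` for the elements of fixed rank 0 -/
theorem inv_zero {r b : ℕ} (hr : r.Prime) (hr2 : r ≠ 2) (hr3 : r ≠ 3)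
    (hb : ¬ r ^ (b + 1) ∣ Nat.card ↥InstData.M.G) {s e : ℕ} (hs : s.Prime) (hsr : s ≠ r) (he : s ^ e ∣ 448345497600)
    (w : ℕ → ℕ) (hw : ∀ k, 1 ≤ k → k ≤ b → ¬ s ^ (w k + 1) ∣ r ^ k - 1) (hW : ∑ i ∈ Finset.range b, w (i + 1) < e)
    (x : Subgroup.centralizer ({KDone.K.z} : Set ↥InstData.M.G)) (hx : orderOf x = 3)
    (hfr : fr (KChart.pi Row.cent x) = 1) :
    Inv1 3 r ↥(centralizer ({(x : ↥InstData.M.G)} : Set ↥InstData.M.G)) := by
  have := Row.finite_model
  have ht := KPair.trNe KDone.lft Row.cent (LThreeMBTr.traceNe KDone.lft LThreeMBTr.TensK.tens)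
  have hC := KChart.chart KDone.lft Row.cent
  obtain ⟨A, hA, hAs⟩ := NegRoot.exists_root LThreeCo1.Ranks.zero (orderOf_pi hC hx) hfr
  obtain ⟨k', hk', hkk'⟩ := PreUniq.MonGen.exists_k KDone.lft Row.cent Nat.prime_three (by decide) hx hfr hA hAs
  exact MThr.inv_cent hC CoOneFin.coOne ht hx hfr hk' hkk' hr hr2 hr3 hb hs hsr he w hw hW

theorem card_model : Nat.card ↥InstData.M.G = 808017424794512875886459904961710757005754368000000000 :=
  MonsterP.EquivOf.isM_model.2

/-- **no big group in the model** -/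
theorem no_big (h12 : Three) {r c : ℕ} (hr : r.Prime) (hr2 : r ≠ 2) (hr3 : r ≠ 3)
    (hinv : ∀ (x : Subgroup.centralizer ({KDone.K.z} : Set ↥InstData.M.G)), orderOf x = 3 →
      fr (KChart.pi Row.cent x) = 1 → Inv1 3 r ↥(centralizer ({(x : ↥InstData.M.G)} : Set ↥InstData.M.G)))
    (hcA : ∀ s : Spor.Suz, orderOf s = r → ¬ 3 ^ (c + 1) ∣ Nat.card ↥(centralizer ({s} : Set Spor.Suz)))
    (hc : c ≤ 10) (hnum : ∀ j, 1 ≤ j → j ≤ 1 + c → ¬ r ∣ 3 ^ j - 1) {x v : ↥InstData.M.G} (hx : orderOf x = 3)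
    (hv : IsConj BCover.t v) (hxv : x * v = v * x) : ¬ Big r x v := by
  have := Row.finite_model
  have := Row.simple_model
  have ht := KPair.trNe KDone.lft Row.cent (LThreeMBTr.traceNe KDone.lft LThreeMBTr.TensK.tens)
  have hC := KChart.chart KDone.lft Row.cent
  intro hb
  obtain ⟨g, hg, -⟩ := LThreeM.FiRow.exists_z_in (by rw [← hx, pow_orderOf_eq_one]) hv hxv
  have h1 : (g⁻¹ * x * g) * KDone.K.z = KDone.K.z * (g⁻¹ * x * g) := by
    calc (g⁻¹ * x * g) * KDone.K.z = g⁻¹ * (x * (g * KDone.K.z * g⁻¹)) * g := by group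
      _ = g⁻¹ * ((g * KDone.K.z * g⁻¹) * x) * g := by rw [hg]
      _ = KDone.K.z * (g⁻¹ * x * g) := by group
  let x' : centralizer ({KDone.K.z} : Set ↥InstData.M.G) := ⟨g⁻¹ * x * g, mem_centralizer_singleton_iff.2 h1⟩
  have hb' := hb.conj g⁻¹
  rw [inv_inv] at hb'
  have hx' : orderOf x' = 3 := by
    rw [← Subgroup.orderOf_coe, ← hx]
    have h6 := MulEquiv.orderOf_eq (MulAut.conj g⁻¹) x
    rw [MulAut.conj_apply, inv_inv] at h6
    exact h6
  have hv' : orderOf (g⁻¹ * v * g) = 2 := by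
    rw [← RowB.orderOf_t hv]
    have h6 := MulEquiv.orderOf_eq (MulAut.conj g⁻¹) v
    rw [MulAut.conj_apply, inv_inv] at h6
    exact h6
  have h4 : (g⁻¹ * v * g) * (x' : ↥InstData.M.G) = x' * (g⁻¹ * v * g) := by
    show (g⁻¹ * v * g) * (g⁻¹ * x * g) = (g⁻¹ * x * g) * (g⁻¹ * v * g)
    calc (g⁻¹ * v * g) * (g⁻¹ * x * g) = g⁻¹ * (v * x) * g := by group
      _ = g⁻¹ * (x * v) * g := by rw [hxv]
      _ = _ := by group
  refine not_big hC CoOneFin.coOne ht (KPair.hasPair KDone.lft Row.cent Row.second COct.octPair) ?_ h12 hx' hv' h4 ?_ hb'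
  · intro x v hx hfr
    obtain ⟨A, hA, hAs⟩ := NegRoot.exists_root LThreeCo1.Ranks.zero (orderOf_pi hC hx) hfr
    obtain ⟨k', hk', hkk'⟩ := PreUniq.MonGen.exists_k KDone.lft Row.cent Nat.prime_three (by decide) hx hfr hA hAs
    exact not_big_zero hC CoOneFin.coOne ht hx hfr hk' hkk' hr hr2 hr3 (hinv x hx hfr) (by rw [card_model]; norm_num)
      hcA hc hnum v
  · intro d hd
    refine RowB.not_conj hv (d * g⁻¹) ?_
    rw [← hd]
    group

/-- the 5-part -/
theorem no_five {x v : ↥InstData.M.G} (hx : orderOf x = 3) (hv : IsConj BCover.t v) (hxv : x * v = v * x) :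
    ¬ 5 ^ 6 ∣ Nat.card ↥(centralizer ({x} : Set ↥InstData.M.G)) := by
  have := Row.finite_model
  have := Row.simple_model
  have ht := KPair.trNe KDone.lft Row.cent (LThreeMBTr.traceNe KDone.lft LThreeMBTr.TensK.tens)
  have hC := KChart.chart KDone.lft Row.cent
  obtain ⟨g, hg, -⟩ := LThreeM.FiRow.exists_z_in (by rw [← hx, pow_orderOf_eq_one]) hv hxv
  have h1 : (g⁻¹ * x * g) * KDone.K.z = KDone.K.z * (g⁻¹ * x * g) := by
    calc (g⁻¹ * x * g) * KDone.K.z = g⁻¹ * (x * (g * KDone.K.z * g⁻¹)) * g := by group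
      _ = g⁻¹ * ((g * KDone.K.z * g⁻¹) * x) * g := by rw [hg]
      _ = KDone.K.z * (g⁻¹ * x * g) := by group
  let x' : centralizer ({KDone.K.z} : Set ↥InstData.M.G) := ⟨g⁻¹ * x * g, mem_centralizer_singleton_iff.2 h1⟩
  have hx' : orderOf x' = 3 := by
    rw [← Subgroup.orderOf_coe, ← hx]
    have h6 := MulEquiv.orderOf_eq (MulAut.conj g⁻¹) x
    rw [MulAut.conj_apply, inv_inv] at h6
    exact h6
  have h2 : g * (x' : ↥InstData.M.G) * g⁻¹ = x := by
    show g * (g⁻¹ * x * g) * g⁻¹ = x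
    group
  obtain ⟨⟨e⟩, -⟩ := LThreeMB.exists_XX_equiv h2
  rw [← Nat.card_congr e.toEquiv]
  refine not_five hC CoOneFin.coOne ht (KPair.hasPair KDone.lft Row.cent Row.second COct.octPair) (fun x hx hfr => ?_) hx'
  exact inv_zero (b := 9) (s := 3) (e := 7) (by norm_num) (by norm_num) (by norm_num) (by rw [card_model]; norm_num)
    (by norm_num) (by norm_num) (by norm_num) (fun k => if k = 6 then 2 else if Even k then 1 else 0) (by decide)
    (by decide) x hx hfr

/-! ### The Baby Monster -/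

/-- lifting a centralizer from a central quotient of order 2 of `C(v)` -/
theorem exists_lift_of {G X : Type*} [Group G] [Finite G] [Group X] [Finite X] {v : G}
    (h1 : Nat.card ↥(center ↥(centralizer ({v} : Set G))) = 2)
    (e : ↥(centralizer ({v} : Set G)) ⧸ center ↥(centralizer ({v} : Set G)) ≃* X) {r : ℕ} (hr : r.Prime)
    (hr2 : r ≠ 2) {y : X} (hy : orderOf y = r) :
    ∃ x : G, orderOf x = r ∧ x * v = v * x ∧
      Nat.card ↥(centralizer ({y} : Set X)) ∣ Nat.card ↥(centralizer ({x} : Set G) ⊓ centralizer ({v} : Set G)) := by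
  let f : ↥(centralizer ({v} : Set G)) →* X := e.toMonoidHom.comp (QuotientGroup.mk' (center ↥(centralizer ({v} : Set G))))
  have hf : Function.Surjective f := e.surjective.comp (QuotientGroup.mk'_surjective _)
  have hk : f.ker = center ↥(centralizer ({v} : Set G)) := by
    ext c
    rw [MonoidHom.mem_ker, ← QuotientGroup.eq_one_iff]
    exact e.map_eq_one_iff
  obtain ⟨x, hx, -, hd⟩ := cent_quot f hf hk.le hr (by
    rw [hk, h1]
    exact (Nat.coprime_primes Nat.prime_two hr).2 hr2.symm) hy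
  refine ⟨x, (Subgroup.orderOf_coe x).trans hx, mem_centralizer_singleton_iff.1 x.2, ?_⟩
  refine (Dvd.intro _ rfl).trans (hd.trans ?_)
  rw [Nat.card_congr (BCover.centEquiv x).toEquiv]

/-- centralizers in `B` -/
theorem exists_lift {r : ℕ} (hr : r.Prime) (hr2 : r ≠ 2) {y : Spor.BabyMonster} (hy : orderOf y = r) :
    ∃ x v : ↥InstData.M.G, orderOf x = r ∧ IsConj BCover.t v ∧ x * v = v * x ∧
      Nat.card ↥(centralizer ({y} : Set Spor.BabyMonster)) ∣
        Nat.card ↥(centralizer ({x} : Set ↥InstData.M.G) ⊓ centralizer ({v} : Set ↥InstData.M.G)) := by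
  have hfin : Finite ↥InstData.M.G := Row.finite_model
  have h0 : IsB Spor.BabyMonster := S1704.result
  have hf : Finite Spor.BabyMonster := Nat.finite_of_card_ne_zero (by rw [h0.2]; norm_num)
  obtain ⟨⟨h1, -, ⟨e⟩⟩, -⟩ := ModelB.fieldsKS LitFin.all KDone.lnk KDone.lft (NodesGrp.prel LitFin.H)
    (NodesNe.ne LitFin.H) LitFin.conj_ten Cfsg.Agent.S1704.result KDone.lnk.x₀_mem
  obtain ⟨g, hg⟩ := ModelB.exists_conj_t LitFin.all.hG LitFin.all.hR KDone.lnk KDone.lft KDone.lnk.x₀_mem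
  obtain ⟨x, hx, hxv, hd⟩ := exists_lift_of h1 e hr hr2 hy
  exact ⟨x, _, hx, isConj_iff.2 ⟨g, hg⟩, hxv, hd⟩

/-- **the centralizers of the elements of order `r` of `B`** -/
theorem cent_b {r : ℕ} (hr : r.Prime) (hr2 : r ≠ 2)
    (hbig : ∀ {x v : ↥InstData.M.G}, orderOf x = 3 → IsConj BCover.t v → x * v = v * x → ¬ Big r x v)
    {y : Spor.BabyMonster} (hy : orderOf y = r) :
    ¬ 3 ^ 12 ∣ Nat.card ↥(centralizer ({y} : Set Spor.BabyMonster)) := by
  have hfin : Finite ↥InstData.M.G := Row.finite_model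
  intro hd
  obtain ⟨y', v, hy', hv, hyv, hd'⟩ := exists_lift hr hr2 hy
  have h1 := hd.trans hd'
  obtain ⟨T0, hT0⟩ := Sylow.exists_subgroup_card_pow_prime 3 h1
  set T : Subgroup ↥InstData.M.G := T0.map (Subgroup.subtype _) with hT
  have hTc : Nat.card ↥T = 3 ^ 12 := by
    rw [hT, card_map_of_injective (Subgroup.subtype_injective _), hT0]
  have hTle : T ≤ centralizer ({y'} : Set ↥InstData.M.G) ⊓ centralizer ({v} : Set ↥InstData.M.G) := map_subtype_le _
  obtain ⟨x, hxT, hx, hTx⟩ := exists_central (p := 3) (a := 12) (IsPGroup.of_card hTc) (by rw [hTc]) (by norm_num)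
  refine hbig hx hv (mem_centralizer_singleton_iff.1 (hTle hxT).2) ⟨T, y', IsPGroup.of_card hTc, by rw [hTc], hy', ?_,
    hTx, hTle.trans inf_le_right, hTle.trans inf_le_left⟩
  exact (mem_centralizer_singleton_iff.1 (hTle hxT).1).symm

theorem card_b : Nat.card Spor.BabyMonster = 4154781481226426191177580544000000 := S1704.result.2

/-- the 5-part of the centralizers of the elements of order 3 of `B` -/
theorem cent_b_five {x : Spor.BabyMonster} (hx : orderOf x = 3) :
    ¬ 5 ^ 6 ∣ Nat.card ↥(centralizer ({x} : Set Spor.BabyMonster)) := by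
  have hfin : Finite ↥InstData.M.G := Row.finite_model
  intro hd
  obtain ⟨x', v, hx', hv, hxv, hd'⟩ := exists_lift Nat.prime_three (by norm_num) hx
  exact no_five hx' hv hxv (hd.trans (hd'.trans (card_dvd_of_le inf_le_left)))

/-- `r = 5` -/
theorem inv_five (hbig : ∀ {x v : ↥InstData.M.G}, orderOf x = 3 → IsConj BCover.t v → x * v = v * x → ¬ Big 5 x v) :
    Inv1 3 5 Spor.BabyMonster := by
  have hf : Finite Spor.BabyMonster := Nat.finite_of_card_ne_zero (by rw [card_b]; norm_num)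
  have h5 : Fact (Nat.Prime 5) := ⟨Nat.prime_five⟩
  have hb : ¬ 5 ^ (6 + 1) ∣ Nat.card Spor.BabyMonster := by rw [card_b]; norm_num
  intro S hS hSi R hR hn
  by_contra hne
  obtain ⟨k, hk, hc⟩ := card_pgroup hb hR
  have hk0 : k ≠ 0 := by
    rintro rfl
    rw [pow_zero] at hc
    exact hne (card_eq_one.1 hc)
  have hSc : 3 ^ 13 ∣ Nat.card ↥S := card_sylow (by rw [card_b]; norm_num) hSi
  rcases Nat.lt_or_ge k 6 with hk6 | hk6
  · have hw : ¬ 3 ^ (1 + 1) ∣ 5 ^ k - 1 := by
      have h1 : ∀ k ∈ Finset.Icc 1 5, ¬ 3 ^ (1 + 1) ∣ 5 ^ k - 1 := by decide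
      exact h1 k (Finset.mem_Icc.2 ⟨by omega, by omega⟩)
    obtain ⟨y, -, hy, hd⟩ := exists_cent_of_card hc hw hS hn
    refine cent_b Nat.prime_five (by norm_num) hbig hy ?_
    have h1 := hSc.trans hd
    rw [pow_one, pow_succ] at h1
    exact (Nat.dvd_of_mul_dvd_mul_right (by norm_num) h1).trans (card_dvd_of_le inf_le_right)
  · obtain rfl : k = 6 := by omega
    have hd := card_dvd_kernel (s := 3) (by norm_num) hb (fun k => if k = 6 then 2 else if Even k then 1 else 0)
      (by decide) hR 6 S hS hn (fun k j hk _ => by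
        have : k = 6 := Nat.pow_right_injective (show 2 ≤ 5 by norm_num) (by show 5 ^ k = 5 ^ 6; rw [← hk, ← hc])
        omega)
    have h1 : 3 ^ 9 ∣ Nat.card ↥(S ⊓ centralizer (R : Set Spor.BabyMonster)) := by
      have h2 := hSc.trans hd
      have h3 : (∑ i ∈ Finset.range 6, (fun k => if k = 6 then 2 else if Even k then 1 else 0) (i + 1)) = 4 := by decide
      rw [h3, show 3 ^ 13 = 3 ^ 9 * 3 ^ 4 by norm_num] at h2
      exact Nat.dvd_of_mul_dvd_mul_right (by norm_num) h2
    obtain ⟨x, hxS, hx, -⟩ := exists_central (p := 3) (a := 9) (hS.to_le inf_le_left) h1 (by norm_num)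
    refine cent_b_five hx ?_
    rw [← hc]
    apply card_dvd_of_le
    intro g hg
    rw [mem_centralizer_singleton_iff]
    exact mem_centralizer_iff.1 hxS.2 g hg

/-- `Inv1 3 r` for `r = 7, 11, 13, 23, 31` -/
theorem inv_of_big {r b : ℕ} (hr : r.Prime) (hr2 : r ≠ 2) (hb : ¬ r ^ (b + 1) ∣ Nat.card Spor.BabyMonster)
    (hw : ∀ k, 1 ≤ k → k ≤ b → ¬ 3 ^ (1 + 1) ∣ r ^ k - 1)
    (hbig : ∀ {x v : ↥InstData.M.G}, orderOf x = 3 → IsConj BCover.t v → x * v = v * x → ¬ Big r x v) :
    Inv1 3 r Spor.BabyMonster := by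
  have hf : Finite Spor.BabyMonster := Nat.finite_of_card_ne_zero (by rw [card_b]; norm_num)
  exact inv1_of_cent (a := 12) (w := 1) Nat.prime_three hr (by rw [card_b]; norm_num) hb hw
    fun y hy => cent_b hr hr2 hbig hy

/-- the bounds for `Suz` -/
theorem suz_of {r c : ℕ} (hr : r.Prime) (hr3 : r ≠ 3)
    (h : ∀ s : Co1, orderOf s = r → ¬ 3 ^ (c + 2) ∣ Nat.card ↥(centralizer ({s} : Set Co1))) :
    ∀ s : Spor.Suz, orderOf s = r → ¬ 3 ^ (c + 1) ∣ Nat.card ↥(centralizer ({s} : Set Spor.Suz)) := by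
  have hf : Finite Spor.Suz := Nat.finite_of_card_ne_zero (by rw [Cfsg.Agent.S1694.result.2]; norm_num)
  intro s hs hd
  obtain ⟨x, hx, h1⟩ := CoOne.cent_suz ⟨MulEquiv.refl _⟩ hr hr3 hs hd
  exact h x hx h1

theorem suz_none {r c : ℕ} (hd : ¬ r ∣ 448345497600) :
    ∀ s : Spor.Suz, orderOf s = r → ¬ 3 ^ (c + 1) ∣ Nat.card ↥(centralizer ({s} : Set Spor.Suz)) := by
  intro s hs
  exfalso
  apply hd
  rw [← hs, ← Cfsg.Agent.S1694.result.2]
  exact orderOf_dvd_natCard _

/-- **`Inv1 3 r` for the Baby Monster** -/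
theorem inv_b_of (h12 : Three)
    (h5 : ∀ s : Spor.Suz, orderOf s = 5 → ¬ 3 ^ 3 ∣ Nat.card ↥(centralizer ({s} : Set Spor.Suz))) {r : ℕ}
    (hr : r ∈ [5, 7, 11, 13, 23, 31]) : Inv1 3 r Spor.BabyMonster := by
  simp only [List.mem_cons, List.not_mem_nil, or_false] at hr
  rcases hr with rfl | rfl | rfl | rfl | rfl | rfl
  · exact inv_five (no_big h12 (c := 2) (by norm_num) (by norm_num) (by norm_num)
      (inv_zero (b := 9) (s := 3) (e := 7) (by norm_num) (by norm_num) (by norm_num) (by rw [card_model]; norm_num)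
        (by norm_num) (by norm_num) (by norm_num) (fun k => if k = 6 then 2 else if Even k then 1 else 0) (by decide)
        (by decide)) h5 (by norm_num) (by decide))
  · exact inv_of_big (b := 2) (by norm_num) (by norm_num) (by rw [card_b]; norm_num) (by decide)
      (no_big h12 (c := 2) (by norm_num) (by norm_num) (by norm_num)
      (inv_zero (b := 6) (s := 13) (e := 1) (by norm_num) (by norm_num) (by norm_num) (by rw [card_model]; norm_num)
        (by norm_num) (by norm_num) (by norm_num) (fun _ => 0) (by decide)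
        (by decide)) (suz_of (by norm_num) (by norm_num) fun s hs => CoOne.cent_seven hs) (by norm_num) (by decide))
  · exact inv_of_big (b := 1) (by norm_num) (by norm_num) (by rw [card_b]; norm_num) (by decide)
      (no_big h12 (c := 1) (by norm_num) (by norm_num) (by norm_num)
      (inv_zero (b := 2) (s := 13) (e := 1) (by norm_num) (by norm_num) (by norm_num) (by rw [card_model]; norm_num)
        (by norm_num) (by norm_num) (by norm_num) (fun _ => 0) (by decide)
        (by decide)) (suz_of (by norm_num) (by norm_num) fun s hs => CoOne.cent_eleven hs) (by norm_num) (by decide))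
  · exact inv_of_big (b := 1) (by norm_num) (by norm_num) (by rw [card_b]; norm_num) (by decide)
      (no_big h12 (c := 1) (by norm_num) (by norm_num) (by norm_num)
      (inv_zero (b := 3) (s := 11) (e := 1) (by norm_num) (by norm_num) (by norm_num) (by rw [card_model]; norm_num)
        (by norm_num) (by norm_num) (by norm_num) (fun _ => 0) (by decide)
        (by decide)) (suz_of (by norm_num) (by norm_num) fun s hs => CoOne.cent_thirteen hs) (by norm_num) (by decide))
  · exact inv_of_big (b := 1) (by norm_num) (by norm_num) (by rw [card_b]; norm_num) (by decide)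
      (no_big h12 (c := 0) (by norm_num) (by norm_num) (by norm_num)
      (inv_zero (b := 1) (s := 13) (e := 1) (by norm_num) (by norm_num) (by norm_num) (by rw [card_model]; norm_num)
        (by norm_num) (by norm_num) (by norm_num) (fun _ => 0) (by decide)
        (by decide)) (suz_none (by norm_num)) (by norm_num) (by decide))
  · exact inv_of_big (b := 1) (by norm_num) (by norm_num) (by rw [card_b]; norm_num) (by decide)
      (no_big h12 (c := 0) (by norm_num) (by norm_num) (by norm_num)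
      (inv_zero (b := 1) (s := 13) (e := 1) (by norm_num) (by norm_num) (by norm_num) (by rw [card_model]; norm_num)
        (by norm_num) (by norm_num) (by norm_num) (fun _ => 0) (by decide)
        (by decide)) (suz_none (by norm_num)) (by norm_num) (by decide))

end Cfsg.Agent.H171.Odd.BThree
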