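import Cfsg.Agent.Co2Type.CardCo2
import Cfsg.Agent.SporRec.Co3.Model
import Cfsg.Agent.TypeM.FactsMcL
import Cfsg.Agent.H171.Odd.ConwayA

/-!
# The rows `Co₂`, `Co₃`, `McL` (helper171)
-/

set_option autoImplicit false
set_option maxRecDepth 100000

namespace Cfsg.Agent.H171.Odd

open Cfsg Subgroup Cfsg.Agent.H553.OddHall

universe u

variable {G : Type u} [Group G] [Finite G] [IsSimpleGroup G]

theorem oddC_co3 (h : Spor.IsoCo3 G) (hnc : ¬ IsMulCommutative G) (hind : OddInd G) : OddC G := by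
  have hc : Nat.card G = 495766656000 := by
    obtain ⟨e⟩ := h
    rw [Nat.card_congr (e.trans Cfsg.Agent.SporRec.Co3.Model.equivCo3.symm).toEquiv,
      Cfsg.Agent.SporRec.Co3.Chain.isCo3_G3.2]
  obtain ⟨e⟩ := h
  refine oddC_of_cert hnc hind hc (L := [(3, 7), (5, 3), (7, 1), (11, 1), (23, 1)]) (T := [(3, 5), (3, 7), (3, 11)])
    (by simp only [List.mem_cons, List.not_mem_nil, or_false]; rintro x (rfl | rfl | rfl | rfl | rfl) <;> norm_num)
    (Conway.tab ((Subgroup.inclusion Conway.co3_le).comp e.toMonoidHom)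
      ((Subgroup.inclusion_injective Conway.co3_le).comp e.injective) PreUniqCo.Rows.leechV_ne (fun g => (e g).2.2)
      (by rw [hc]; norm_num) (by rw [hc]; norm_num) (by rw [hc]; norm_num) (by rw [hc]; norm_num))
    (by decide +kernel)

theorem oddC_co2 (h : Spor.IsoCo2 G) (hnc : ¬ IsMulCommutative G) (hind : OddInd G) : OddC G := by
  have hc : Nat.card G = 42305421312000 := by
    obtain ⟨e⟩ := h
    rw [Nat.card_congr e.toEquiv, Co2Type.CardCo2.card_co2]
  obtain ⟨e⟩ := h
  refine oddC_of_cert hnc hind hc (L := [(3, 6), (5, 3), (7, 1), (11, 1), (23, 1)]) (T := [(3, 5), (3, 7), (3, 11)])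
    (by simp only [List.mem_cons, List.not_mem_nil, or_false]; rintro x (rfl | rfl | rfl | rfl | rfl) <;> norm_num)
    (Conway.tab ((Subgroup.inclusion Conway.co2_le).comp e.toMonoidHom)
      ((Subgroup.inclusion_injective Conway.co2_le).comp e.injective) PreUniqCo.Rows.leechU_ne (fun g => (e g).2.2)
      (by rw [hc]; norm_num) (by rw [hc]; norm_num) (by rw [hc]; norm_num) (by rw [hc]; norm_num))
    (by decide +kernel)

theorem oddC_mcl (h : Spor.IsoMcL G) (hnc : ¬ IsMulCommutative G) (hind : OddInd G) : OddC G := by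
  have hc : Nat.card G = 898128000 := by
    obtain ⟨-, -, hcard, -⟩ := TypeM.FactsMcL.facts h
    exact hcard
  obtain ⟨e⟩ := h
  refine oddC_of_cert hnc hind hc (L := [(3, 6), (5, 3), (7, 1), (11, 1)]) (T := [(3, 5), (3, 7), (3, 11)])
    (by simp only [List.mem_cons, List.not_mem_nil, or_false]; rintro x (rfl | rfl | rfl | rfl) <;> norm_num)
    (Conway.tab ((Subgroup.inclusion Conway.mcl_le).comp e.toMonoidHom)
      ((Subgroup.inclusion_injective Conway.mcl_le).comp e.injective) PreUniqCo.Rows.leechU_ne (fun g => (e g).2.2)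
      (by rw [hc]; norm_num) (by rw [hc]; norm_num) (by rw [hc]; norm_num) (by rw [hc]; norm_num))
    (by decide +kernel)

end Cfsg.Agent.H171.Odd
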