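import Cfsg.Agent.S1694
import Cfsg.Agent.H171.Odd.ConwayB

/-!
# The rows `Co₁`, `Suz` (helper171)
-/

set_option autoImplicit false
set_option maxRecDepth 100000

namespace Cfsg.Agent.H171.Odd

open Cfsg Subgroup Cfsg.Agent.H553.OddHall

universe u

/-- the table of `Suz` -/
theorem inv_suz {G : Type*} [Group G] (h : Spor.IsoSuz G) : Inv1 3 5 G ∧ Inv1 3 7 G ∧ Inv1 3 11 G ∧ Inv1 3 13 G := by
  have hc : Nat.card G = 448345497600 := by
    obtain ⟨e⟩ := h
    rw [Nat.card_congr e.toEquiv, S1694.result.2]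
  have hf : Finite G := Nat.finite_of_card_ne_zero (by rw [hc]; norm_num)
  have h1 := CoOne.tab_suz hc h
  exact ⟨h1 (3, 5) (by simp), h1 (3, 7) (by simp), h1 (3, 11) (by simp), h1 (3, 13) (by simp)⟩

variable {G : Type u} [Group G] [Finite G] [IsSimpleGroup G]

theorem oddC_co1 (h : Spor.IsoCo1 G) (hnc : ¬ IsMulCommutative G) (hind : OddInd G) : OddC G := by
  obtain ⟨e⟩ := h
  have hc : Nat.card G = 4157776806543360000 := by
    rw [Nat.card_congr e.toEquiv, S0399.result.2]
  refine oddC_of_cert hnc hind hc (L := [(3, 9), (5, 4), (7, 2), (11, 1), (13, 1), (23, 1)])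
    (T := [(3, 5), (3, 7), (3, 11), (3, 13)])
    (by simp only [List.mem_cons, List.not_mem_nil, or_false]; rintro x (rfl | rfl | rfl | rfl | rfl | rfl) <;> norm_num)
    (CoOne.tab hc e) (by decide +kernel)

theorem oddC_suz (h : Spor.IsoSuz G) (hnc : ¬ IsMulCommutative G) (hind : OddInd G) : OddC G := by
  have hc : Nat.card G = 448345497600 := by
    obtain ⟨e⟩ := h
    rw [Nat.card_congr e.toEquiv, S1694.result.2]
  refine oddC_of_cert hnc hind hc (L := [(3, 7), (5, 2), (7, 1), (11, 1), (13, 1)])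
    (T := [(3, 5), (3, 7), (3, 11), (3, 13)])
    (by simp only [List.mem_cons, List.not_mem_nil, or_false]; rintro x (rfl | rfl | rfl | rfl | rfl) <;> norm_num)
    (CoOne.tab_suz hc h) (by decide +kernel)

end Cfsg.Agent.H171.Odd
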