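import Cfsg.Agent.H171.Odd.Quot

/-!
# The derived subgroup of the acting Sylow subgroup (helper171)

* `exists_comm_cent` : an `S`-invariant subgroup centralized by `S'`;
* `mem_commutator_of_central` : a central element of `s`-power order of a perfect group lies in the derived subgroup of
  every Sylow `s`-subgroup.
-/

set_option autoImplicit false

namespace Cfsg.Agent.H171.Odd

open Subgroup commutatorElement

variable {G : Type*} [Group G]

theorem commutator_le_of_index [Finite G] {s : ℕ} [hs : Fact s.Prime] (hG : IsPGroup s G) {T : Subgroup G}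
    (hT : T.index ∣ s) : ∀ g h : G, ⁅g, h⁆ ∈ T := by
  rcases (Nat.dvd_prime hs.out).1 hT with h1 | h1
  · intro g h
    rw [Subgroup.index_eq_one.1 h1]
    exact mem_top _
  · obtain ⟨n, hn⟩ := hG.exists_card_eq
    have hn0 : n ≠ 0 := by
      rintro rfl
      rw [pow_zero] at hn
      have h2 := T.index_dvd_card
      rw [hn, h1, Nat.dvd_one] at h2
      exact hs.out.one_lt.ne' h2
    have hN : T.Normal := by
      apply Subgroup.normal_of_index_eq_minFac_card
      rw [h1, hn, Nat.pow_minFac hn0, hs.out.minFac_eq]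
    have hc : Nat.card (G ⧸ T) = s := h1
    have hcyc : IsCyclic (G ⧸ T) := isCyclic_of_prime_card hc
    intro g h
    rw [← QuotientGroup.eq_one_iff]
    have h3 : ∀ a b : G ⧸ T, a * b = b * a := fun a b => (IsCyclic.isMulCommutative (α := G ⧸ T)).is_comm.comm a b
    have h4 : ((⁅g, h⁆ : G) : G ⧸ T) = ⁅(g : G ⧸ T), (h : G ⧸ T)⁆ := rfl
    rw [h4, commutatorElement_eq_one_iff_mul_comm]
    exact h3 _ _

theorem exists_comm_cent [Finite G] {s : ℕ} [hs : Fact s.Prime] {S R : Subgroup G} (hS : IsPGroup s S)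
    (hR : S ≤ normalizer (R : Set G)) (h : ¬ s ^ 2 ∣ Nat.card R - 1) :
    ∃ R1 ≤ R, R1 ≠ ⊥ ∧ S ≤ normalizer (R1 : Set G) ∧ ∀ g ∈ S, ∀ k ∈ S, ∀ x ∈ R1, ⁅g, k⁆ * x = x * ⁅g, k⁆ := by
  have hbot : S ≤ normalizer ((⊥ : Subgroup G) : Set G) := by
    rw [Subgroup.normalizer_eq_top (⊥ : Subgroup G)]
    exact le_top
  obtain ⟨y, hy, hy1, hd⟩ := exists_small_orbit (w := 1) hS hR hbot bot_le (by
    rw [Subgroup.card_bot]; exact h)
  rw [pow_one] at hd
  have hyne : y ≠ 1 := fun e => hy1 (e ▸ one_mem _)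
  -- the commutators centralize `y`
  have hTi : ((centralizer ({y} : Set G)).subgroupOf S).index ∣ s := by
    have h1 := ((centralizer ({y} : Set G)).subgroupOf S).card_mul_index
    have h2 : Nat.card ↥((centralizer ({y} : Set G)).subgroupOf S) = Nat.card ↥(S ⊓ centralizer ({y} : Set G)) := by
      rw [← Subgroup.inf_subgroupOf_left, Nat.card_congr (Subgroup.subgroupOfEquivOfLe inf_le_left).toEquiv]
    rw [h2] at h1
    rw [← h1] at hd
    exact Nat.dvd_of_mul_dvd_mul_left Nat.card_pos hd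
  have hcy : ∀ g ∈ S, ∀ k ∈ S, ⁅g, k⁆ * y = y * ⁅g, k⁆ := by
    intro g hg k hk
    have h1 := commutator_le_of_index hS hTi ⟨g, hg⟩ ⟨k, hk⟩
    rw [mem_subgroupOf, mem_centralizer_singleton_iff] at h1
    exact h1
  refine ⟨closure {x : G | ∃ g ∈ S, x = g * y * g⁻¹}, ?_, ?_, ?_, ?_⟩
  · rw [closure_le]
    rintro _ ⟨g, hg, rfl⟩
    exact (mem_normalizer_iff.1 (hR hg) y).1 hy
  · intro e
    have h1 : y ∈ closure {x : G | ∃ g ∈ S, x = g * y * g⁻¹} :=
      subset_closure ⟨1, S.one_mem, by group⟩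
    rw [e, mem_bot] at h1
    exact hyne h1
  · have key : ∀ g ∈ S, ∀ x ∈ closure {x : G | ∃ g ∈ S, x = g * y * g⁻¹},
        g * x * g⁻¹ ∈ closure {x : G | ∃ g ∈ S, x = g * y * g⁻¹} := by
      intro g hg x hx
      induction hx using closure_induction with
      | mem x hx =>
        obtain ⟨k, hk, rfl⟩ := hx
        exact subset_closure ⟨g * k, S.mul_mem hg hk, by group⟩
      | one => rw [mul_one, mul_inv_cancel]; exact one_mem _
      | mul a b _ _ ha hb =>
        have h1 : g * (a * b) * g⁻¹ = (g * a * g⁻¹) * (g * b * g⁻¹) := by group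
        rw [h1]
        exact mul_mem ha hb
      | inv a _ ha =>
        have h1 : g * a⁻¹ * g⁻¹ = (g * a * g⁻¹)⁻¹ := by group
        rw [h1]
        exact inv_mem ha
    intro g hg
    rw [mem_normalizer_iff]
    intro x
    refine ⟨key g hg x, fun hx => ?_⟩
    have h1 := key g⁻¹ (S.inv_mem hg) _ hx
    have h2 : g⁻¹ * (g * x * g⁻¹) * g⁻¹⁻¹ = x := by group
    rwa [h2] at h1
  · intro g hg k hk x hx
    induction hx using closure_induction with
    | mem x hx =>
      obtain ⟨a, ha, rfl⟩ := hx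
      have h1 := hcy (a⁻¹ * g * a) (S.mul_mem (S.mul_mem (S.inv_mem ha) hg) ha) (a⁻¹ * k * a)
        (S.mul_mem (S.mul_mem (S.inv_mem ha) hk) ha)
      have h2 : ⁅a⁻¹ * g * a, a⁻¹ * k * a⁆ = a⁻¹ * ⁅g, k⁆ * a := by
        rw [commutatorElement_def, commutatorElement_def]; group
      rw [h2] at h1
      calc ⁅g, k⁆ * (a * y * a⁻¹) = a * ((a⁻¹ * ⁅g, k⁆ * a) * y) * a⁻¹ := by group
        _ = a * (y * (a⁻¹ * ⁅g, k⁆ * a)) * a⁻¹ := by rw [h1]
        _ = a * y * a⁻¹ * ⁅g, k⁆ := by group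
    | one => rw [mul_one, one_mul]
    | mul a b _ _ ha hb => rw [← mul_assoc, ha, mul_assoc, hb, mul_assoc]
    | inv a _ ha =>
      have h1 : Commute ⁅g, k⁆ a := ha
      exact h1.inv_right.eq

/-- central elements of perfect groups -/
theorem mem_commutator_of_central [Finite G] {s : ℕ} [hs : Fact s.Prime] (hG : commutator G = ⊤) {x : G}
    (hx : ∀ g, g * x = x * g) (hxs : orderOf x = s) {S : Subgroup G} (hSi : ¬ s ∣ S.index)
    (hxS : x ∈ S) : (⟨x, hxS⟩ : ↥S) ∈ commutator ↥S := by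
  have hfi : S.FiniteIndex := inferInstance
  let φ : ↥S →* Abelianization ↥S := Abelianization.of
  have key : ∀ (k : ℕ) (g₀ : G), g₀⁻¹ * x ^ k * g₀ ∈ S → g₀⁻¹ * x ^ k * g₀ = x ^ k := by
    intro k g₀ _
    have h1 : Commute g₀ (x ^ k) := (show Commute g₀ x from hx g₀).pow_right k
    rw [mul_assoc, ← h1.eq, inv_mul_cancel_left]
  have h1 := MonoidHom.transfer_eq_pow φ x key
  have h2 : (MonoidHom.transfer φ) x = 1 := by
    have h3 : commutator G ≤ (MonoidHom.transfer φ).ker := Abelianization.commutator_subset_ker _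
    have h4 : x ∈ commutator G := by rw [hG]; exact mem_top x
    exact h3 h4
  rw [h2] at h1
  have h5 : (⟨x, hxS⟩ : ↥S) ^ S.index ∈ commutator ↥S := by
    rw [← Abelianization.ker_of, MonoidHom.mem_ker]
    exact h1.symm
  -- `x` is a power of `x ^ index`
  have hcop : Nat.Coprime S.index s := ((Nat.Prime.coprime_iff_not_dvd hs.out).2 hSi).symm
  obtain ⟨m, -, hm⟩ := Nat.exists_mul_mod_eq_one_of_coprime hcop hs.out.one_lt
  have h6 : (⟨x, hxS⟩ : ↥S) ^ s = 1 := Subtype.ext (by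
    change x ^ s = 1
    rw [← hxs, pow_orderOf_eq_one])
  have h7 : ((⟨x, hxS⟩ : ↥S) ^ S.index) ^ m = ⟨x, hxS⟩ := by
    rw [← pow_mul, pow_eq_pow_mod (S.index * m) h6, hm, pow_one]
  rw [← h7]
  exact (commutator ↥S).pow_mem h5 m

end Cfsg.Agent.H171.Odd
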