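import Cfsg.Agent.H171.Odd.Der
import Cfsg.Agent.H171.Odd.Base

/-!
# Reduction to the quotient of the centralizer of a central element (helper171)
-/

set_option autoImplicit false

namespace Cfsg.Agent.H171.Odd

open Subgroup commutatorElement
open scoped Pointwise

/-- images of normalizers -/
theorem map_le_normalizer {G K : Type*} [Group G] [Group K] (f : G →* K) {S R : Subgroup G}
    (hn : S ≤ normalizer (R : Set G)) : S.map f ≤ normalizer ((R.map f : Subgroup K) : Set K) := by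
  have key : ∀ g ∈ S, ∀ x ∈ R.map f, f g * x * (f g)⁻¹ ∈ R.map f := by
    rintro g hg _ ⟨y, hy, rfl⟩
    exact ⟨g * y * g⁻¹, (mem_normalizer_iff.1 (hn hg) y).1 hy, by simp⟩
  rintro _ ⟨g, hg, rfl⟩
  rw [mem_normalizer_iff]
  intro x
  refine ⟨key g hg x, fun hx => ?_⟩
  have h1 := key g⁻¹ (S.inv_mem hg) _ hx
  rw [map_inv] at h1
  have h2 : (f g)⁻¹ * (f g * x * (f g)⁻¹) * (f g)⁻¹⁻¹ = x := by group
  rwa [h2] at h1

theorem Inv1.of_equiv {G K : Type*} [Group G] [Group K] {s t : ℕ} (e : G ≃* K) (h : Inv1 s t K) : Inv1 s t G := by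
  intro S hS hSi R hR hn
  have h1 : R.map e.toMonoidHom = ⊥ := by
    refine h (S.map e.toMonoidHom) (hS.map _) ?_ _ (hR.map _) (map_le_normalizer _ hn)
    rw [show (S.map e.toMonoidHom).index = S.index from Subgroup.index_map_equiv (H := S) e]
    exact hSi
  exact (Subgroup.map_eq_bot_iff_of_injective R e.injective).1 h1

/-- a central quotient -/
theorem red {G K : Type*} [Group G] [Finite G] [Group K] {C : Subgroup G} (f : ↥C →* K) (hf : Function.Surjective f)
    {s t : ℕ} (ht : t.Prime) (hker : ¬ t ∣ Nat.card ↥f.ker) (hK : Inv1 s t K) {S R : Subgroup G}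
    (hSC : S ≤ C) (hRC : R ≤ C) (hS : IsPGroup s S) (hSi : ¬ s ∣ S.index) (hR : IsPGroup t R)
    (hn : S ≤ normalizer (R : Set G)) : R = ⊥ := by
  have hft : Fact t.Prime := ⟨ht⟩
  have hn' : S.subgroupOf C ≤ normalizer ((R.subgroupOf C : Subgroup ↥C) : Set ↥C) := by
    intro g hg
    rw [mem_normalizer_iff]
    intro x
    exact mem_normalizer_iff.1 (hn hg) (x : G)
  have h1 : (R.subgroupOf C).map f = ⊥ := by
    refine hK ((S.subgroupOf C).map f) ?_ ?_ _ ?_ (map_le_normalizer _ hn')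
    · exact (hS.of_injective (Subgroup.subgroupOfEquivOfLe hSC).toMonoidHom
        (Subgroup.subgroupOfEquivOfLe hSC).injective).map _
    · intro hd
      apply hSi
      have h2 : ((S.subgroupOf C).map f).index ∣ (S.subgroupOf C).index := Subgroup.index_map_dvd _ hf
      exact (hd.trans h2).trans (Subgroup.relIndex_dvd_index_of_le hSC)
    · exact (hR.of_injective (Subgroup.subgroupOfEquivOfLe hRC).toMonoidHom
        (Subgroup.subgroupOfEquivOfLe hRC).injective).map _
  have h3 : R.subgroupOf C ≤ f.ker := (Subgroup.map_eq_bot_iff _).1 h1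
  obtain ⟨k, hk⟩ := hR.exists_card_eq
  have h4 := Subgroup.card_dvd_of_le h3
  rw [Nat.card_congr (Subgroup.subgroupOfEquivOfLe hRC).toEquiv, hk] at h4
  rcases Nat.eq_zero_or_pos k with h5 | h5
  · rw [h5, pow_zero] at hk
    exact Subgroup.card_eq_one.1 hk
  · exact absurd ((dvd_pow_self t h5.ne').trans h4) hker

/-- the core case -/
theorem der_red_core {G K : Type*} [Group G] [Finite G] [Group K] {x0 : G} {s t : ℕ} (hs : s.Prime) (ht : t.Prime)
    (hst : s ≠ t) (hx0 : orderOf x0 = s) (hperf : commutator ↥(centralizer ({x0} : Set G)) = ⊤)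
    (f : ↥(centralizer ({x0} : Set G)) →* K) (hf : Function.Surjective f) (hker : Nat.card ↥f.ker = s)
    (hK : Inv1 s t K) {S R : Subgroup G} (hSC : S ≤ centralizer ({x0} : Set G)) (hS : IsPGroup s S)
    (hSi : ¬ s ∣ S.index) (hR : IsPGroup t R) (hn : S ≤ normalizer (R : Set G))
    (hc : ∀ g ∈ S, ∀ k ∈ S, ∀ x ∈ R, ⁅g, k⁆ * x = x * ⁅g, k⁆) : R = ⊥ := by
  have hfs : Fact s.Prime := ⟨hs⟩
  let C := centralizer ({x0} : Set G)
  have hx0C : x0 ∈ C := mem_centralizer_singleton_iff.2 rfl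
  -- `x0` lies in `S`
  have hSi' : ¬ s ∣ (S.subgroupOf C).index := fun hd => hSi (hd.trans (Subgroup.relIndex_dvd_index_of_le hSC))
  have hS' : IsPGroup s (S.subgroupOf C) := hS.of_injective (Subgroup.subgroupOfEquivOfLe hSC).toMonoidHom
        (Subgroup.subgroupOfEquivOfLe hSC).injective
  have hxc : ∀ g : ↥C, g * ⟨x0, hx0C⟩ = ⟨x0, hx0C⟩ * g := fun g =>
    Subtype.ext (mem_centralizer_singleton_iff.1 g.2)
  have hox : orderOf (⟨x0, hx0C⟩ : ↥C) = s := by rw [Subgroup.orderOf_mk, hx0]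
  have hxS : (⟨x0, hx0C⟩ : ↥C) ∈ S.subgroupOf C := by
    have hnz : (zpowers (⟨x0, hx0C⟩ : ↥C)).Normal := by
      refine ⟨fun n hn g => ?_⟩
      obtain ⟨k, rfl⟩ := hn
      have h1 : g * (⟨x0, hx0C⟩ : ↥C) ^ k = (⟨x0, hx0C⟩ : ↥C) ^ k * g :=
        ((show Commute g (⟨x0, hx0C⟩ : ↥C) from hxc g).zpow_right k).eq
      change g * (⟨x0, hx0C⟩ : ↥C) ^ k * g⁻¹ ∈ _
      rw [h1, mul_inv_cancel_right]
      exact ⟨k, rfl⟩
    have hz : IsPGroup s ↥(zpowers (⟨x0, hx0C⟩ : ↥C)) := IsPGroup.of_card (n := 1) (by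
      rw [Nat.card_zpowers, hox, pow_one])
    have h2 := IsPGroup.le_sylow_of_normal hz (hS'.toSylow hSi')
    exact h2 (mem_zpowers _)
  have h3 := mem_commutator_of_central hperf hxc hox hSi' hxS
  -- `x0` centralizes `R`
  have h4 : commutator ↥(S.subgroupOf C) ≤
      (centralizer (R : Set G)).comap (C.subtype.comp (S.subgroupOf C).subtype) := by
    rw [_root_.commutator_def, Subgroup.commutator_le]
    intro g _ k _
    rw [mem_comap, mem_centralizer_iff]
    intro x hx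
    exact (hc _ g.2 _ k.2 x hx).symm
  have h5 : x0 ∈ centralizer (R : Set G) := h4 h3
  have hRC : R ≤ C := by
    intro x hx
    rw [mem_centralizer_singleton_iff]
    exact (mem_centralizer_iff.1 h5 x hx)
  exact red f hf ht (by rw [hker]; exact fun hd => hst ((Nat.prime_dvd_prime_iff_eq ht hs).1 hd).symm) hK hSC hRC hS hSi hR hn

/-- **The reduction.** -/
theorem der_red {G K : Type*} [Group G] [Finite G] [Group K] {x0 : G} {s t : ℕ} (hs : s.Prime) (ht : t.Prime)
    (hst : s ≠ t) (hx0 : orderOf x0 = s) (hperf : commutator ↥(centralizer ({x0} : Set G)) = ⊤)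
    (f : ↥(centralizer ({x0} : Set G)) →* K) (hf : Function.Surjective f) (hker : Nat.card ↥f.ker = s)
    (hK : Inv1 s t K) (hidx : ¬ s ∣ (centralizer ({x0} : Set G)).index) {S R : Subgroup G} (hS : IsPGroup s S)
    (hSi : ¬ s ∣ S.index) (hR : IsPGroup t R) (hn : S ≤ normalizer (R : Set G))
    (hc : ∀ g ∈ S, ∀ k ∈ S, ∀ x ∈ R, ⁅g, k⁆ * x = x * ⁅g, k⁆) : R = ⊥ := by
  have hfs : Fact s.Prime := ⟨hs⟩
  let C := centralizer ({x0} : Set G)
  obtain ⟨P⟩ : Nonempty (Sylow s ↥C) := inferInstance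
  have hPi : ¬ s ∣ ((P : Subgroup ↥C).map C.subtype).index := by
    rw [Subgroup.index_map_subtype]
    intro hd
    rcases (Nat.Prime.dvd_mul hs).1 hd with h | h
    · exact P.not_dvd_index h
    · exact hidx h
  have hPp : IsPGroup s ↥((P : Subgroup ↥C).map C.subtype) := P.isPGroup'.map _
  obtain ⟨g, hg⟩ := MulAction.exists_smul_eq G (hS.toSylow hSi) (hPp.toSylow hPi)
  have h1 : S.map (MulAut.conj g).toMonoidHom = (P : Subgroup ↥C).map C.subtype := by
    have h2 := congrArg (fun Q : Sylow s G => (Q : Subgroup G)) hg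
    exact h2
  have h3 : R.map (MulAut.conj g).toMonoidHom = ⊥ := by
    refine der_red_core hs ht hst hx0 hperf f hf hker hK (S := S.map (MulAut.conj g).toMonoidHom) ?_ (hS.map _) ?_
      (hR.map _) (map_le_normalizer _ hn) ?_
    · rw [h1]
      rintro _ ⟨a, -, rfl⟩
      exact a.2
    · rw [h1]
      exact hPi
    · rintro _ ⟨a, ha, rfl⟩ _ ⟨b, hb, rfl⟩ _ ⟨x, hx, rfl⟩
      rw [← map_commutatorElement, ← map_mul, hc a ha b hb x hx, map_mul]
  exact (Subgroup.map_eq_bot_iff_of_injective R (MulAut.conj g).injective).1 h3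

end Cfsg.Agent.H171.Odd
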