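import Cfsg.Agent.H171.Odd.DerRed
import Cfsg.Agent.H171.Odd.ConwayA
import Cfsg.Agent.CpAutLy.Row
import Cfsg.Agent.CpAut.LyFiveRow

/-!
# The Lyons group: Sylow 3-subgroups (helper171)
-/

set_option autoImplicit false

namespace Cfsg.Agent.H171.Odd.Ly

open Cfsg Subgroup commutatorElement
open Cfsg.Agent.CpAutLy.Base (Three exists_three)

abbrev Ly := Cfsg.Spor.Ly

theorem finite_ly : Finite Ly := Cfsg.Agent.Ly.Setup.finite_ly
theorem card_ly : Nat.card Ly = 51765179004000000 := Cfsg.Agent.Ly.Setup.card_ly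

/-- the table for `McL` -/
theorem inv_mcl {K : Type*} [Group K] [Finite K] (h : Spor.IsoMcL K) (hc : Nat.card K = 898128000) {t : ℕ}
    (ht : t = 5 ∨ t = 7 ∨ t = 11 ∨ t = 31) : Inv1 3 t K := by
  have h1 : ∀ x ∈ [(3, 5), (3, 7), (3, 11)], Inv1 x.1 x.2 K := by
    obtain ⟨e⟩ := h
    exact Conway.tab ((Subgroup.inclusion Conway.mcl_le).comp e.toMonoidHom)
      ((Subgroup.inclusion_injective Conway.mcl_le).comp e.injective) PreUniqCo.Rows.leechU_ne (fun g => (e g).2.2)
      (by rw [hc]; norm_num) (by rw [hc]; norm_num) (by rw [hc]; norm_num) (by rw [hc]; norm_num)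
  rcases ht with rfl | rfl | rfl | rfl
  · exact h1 (3, 5) (by simp)
  · exact h1 (3, 7) (by simp)
  · exact h1 (3, 11) (by simp)
  · intro S _ _ R hR _
    have hf : Fact (Nat.Prime 31) := ⟨by norm_num⟩
    obtain ⟨k, hk⟩ := hR.exists_card_eq
    rcases Nat.eq_zero_or_pos k with h5 | h5
    · rw [h5, pow_zero] at hk
      exact Subgroup.card_eq_one.1 hk
    · exfalso
      have h2 := card_subgroup_dvd_card R
      rw [hk, hc] at h2
      have h3 := (dvd_pow_self 31 h5.ne').trans h2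
      revert h3
      norm_num

/-- the reduction to `McL` -/
theorem red_ly {t : ℕ} (ht : t = 5 ∨ t = 7 ∨ t = 11 ∨ t = 31) {S R : Subgroup Ly} (hS : IsPGroup 3 S)
    (hSi : ¬ 3 ∣ S.index) (hR : IsPGroup t R) (hn : S ≤ normalizer (R : Set Ly))
    (hc : ∀ g ∈ S, ∀ k ∈ S, ∀ x ∈ R, ⁅g, k⁆ * x = x * ⁅g, k⁆) : R = ⊥ := by
  have hfin : Finite Ly := finite_ly
  obtain ⟨x0, h0⟩ := exists_three
  have htp : t.Prime := by rcases ht with rfl | rfl | rfl | rfl <;> norm_num
  have ht3 : 3 ≠ t := by rcases ht with rfl | rfl | rfl | rfl <;> norm_num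
  obtain ⟨-, -, hcard, -⟩ := TypeM.FactsMcL.facts h0.quot
  have hker : (QuotientGroup.mk' (center ↥(centralizer ({x0} : Set Ly)))).ker = center _ := QuotientGroup.ker_mk' _
  refine der_red Nat.prime_three htp ht3 h0.ord h0.perfect (QuotientGroup.mk' (center ↥(centralizer ({x0} : Set Ly))))
    (QuotientGroup.mk'_surjective _) (by rw [hker, h0.zcard]) (inv_mcl h0.quot hcard ht) ?_ hS hSi hR hn hc
  intro hd
  have h1 := (centralizer ({x0} : Set Ly)).card_mul_index
  rw [Subgroup.card_eq_card_quotient_mul_card_subgroup (center ↥(centralizer ({x0} : Set Ly))), hcard, h0.zcard,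
    card_ly] at h1
  omega

theorem three_t {t : ℕ} (ht : t = 7 ∨ t = 11 ∨ t = 31) : Inv1 3 t Ly := by
  have hfin : Finite Ly := finite_ly
  have hf3 : Fact (Nat.Prime 3) := ⟨Nat.prime_three⟩
  have htp : t.Prime := by rcases ht with rfl | rfl | rfl <;> norm_num
  have hft : Fact t.Prime := ⟨htp⟩
  have ht2 : ¬ t ^ (1 + 1) ∣ Nat.card Ly := by
    rw [card_ly]
    rcases ht with rfl | rfl | rfl <;> norm_num
  intro S hS hSi R hR hn
  by_contra hne
  obtain ⟨k, hk, hRk⟩ := card_pgroup ht2 hR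
  have h9 : ¬ 3 ^ 2 ∣ Nat.card R - 1 := by
    rw [hRk]
    rcases Nat.le_one_iff_eq_zero_or_eq_one.1 hk with rfl | rfl
    · rw [pow_zero] at hRk
      exact absurd (Subgroup.card_eq_one.1 hRk) hne
    · rcases ht with rfl | rfl | rfl <;> norm_num
  obtain ⟨R1, hle, hne1, hn1, hc1⟩ := exists_comm_cent hS hn h9
  exact hne1 (red_ly (by tauto) hS hSi (hR.to_le hle) hn1 hc1)

end Cfsg.Agent.H171.Odd.Ly
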