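import Cfsg.Agent.H171.Odd.LyA

/-!
# The Lyons group: Sylow 5-subgroups (helper171)
-/

set_option autoImplicit false

namespace Cfsg.Agent.H171.Odd.Ly

open Subgroup Equiv Cfsg commutatorElement
open Cfsg.Agent.SporRec.TwoAn Cfsg.Agent.TypeM.Two Cfsg.Agent.CpAut.Cyc Cfsg.Agent.CpAut.CycFive
open Cfsg.Agent.CpAut.LyFive Cfsg.Agent.CpAut Cfsg.Agent.CpAut.LyFiveRow

universe u

section

variable {G : Type u} [Group G] [Finite G]

/-- commutators of elements normalizing a subgroup of prime order -/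
theorem comm_cent_prime {X : Type*} [Group X] {r : ℕ} (hr : r.Prime) {R : Subgroup X} (hR : Nat.card R = r) {a b : X}
    (ha : a ∈ normalizer (R : Set X)) (hb : b ∈ normalizer (R : Set X)) : ⁅a, b⁆ ∈ centralizer (R : Set X) := by
  have hf : Fact r.Prime := ⟨hr⟩
  have hcyc : IsCyclic ↥R := isCyclic_of_prime_card hR
  obtain ⟨y, hy⟩ := hcyc.exists_generator
  have hgen : ∀ x ∈ R, ∃ i : ℤ, x = (y : X) ^ i := by
    intro x hx
    obtain ⟨i, hi⟩ := hy ⟨x, hx⟩
    refine ⟨i, ?_⟩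
    have := congrArg Subtype.val hi
    exact this.symm
  have key : ∀ a ∈ normalizer (R : Set X), ∃ i : ℤ, ∀ k : ℤ, a * (y : X) ^ k * a⁻¹ = (y : X) ^ (i * k) := by
    intro a ha
    obtain ⟨i, hi⟩ := hgen _ ((mem_normalizer_iff.1 ha y).1 y.2)
    refine ⟨i, fun k => ?_⟩
    rw [← conj_zpow, hi, zpow_mul]
  obtain ⟨i, hi⟩ := key a ha
  obtain ⟨j, hj⟩ := key b hb
  obtain ⟨i', hi'⟩ := key a⁻¹ (inv_mem ha)
  obtain ⟨j', hj'⟩ := key b⁻¹ (inv_mem hb)
  rw [mem_centralizer_iff]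
  intro x hx
  obtain ⟨k, rfl⟩ := hgen x hx
  have h1 : ⁅a, b⁆ * (y : X) ^ k * ⁅a, b⁆⁻¹ = (y : X) ^ k := by
    have h2 : ⁅a, b⁆ * (y : X) ^ k * ⁅a, b⁆⁻¹ =
        a * (b * (a⁻¹ * (b⁻¹ * (y : X) ^ k * b⁻¹⁻¹) * a⁻¹⁻¹) * b⁻¹) * a⁻¹ := by
      rw [commutatorElement_def]; group
    rw [h2, hj', hi', hj, hi]
    have h3 : a * (b * (b⁻¹ * (a⁻¹ * (y : X) ^ k * a⁻¹⁻¹) * b⁻¹⁻¹) * b⁻¹) * a⁻¹ = (y : X) ^ k := by group
    rw [hi', hj', hj, hi] at h3
    rw [← h3]
    congr 1
    ring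
  calc (y : X) ^ k * ⁅a, b⁆ = (⁅a, b⁆ * (y : X) ^ k * ⁅a, b⁆⁻¹) * ⁅a, b⁆ := by rw [h1]
    _ = ⁅a, b⁆ * (y : X) ^ k := by group

/-- no element of order 7, 11, 31 centralizes an involution and a commuting element of order 5 -/
theorem not_inv (L : MT 11 G) {x s y : G} {r : ℕ} (hr : r = 7 ∨ r = 11 ∨ r = 31) (hx : orderOf x = 5)
    (hs : orderOf s = 2) (hsx : s * x = x * s) (hy : orderOf y = r) (hys : y * s = s * y) (hyx : y * x = x * y) :
    False := by
  obtain ⟨hss, hs1⟩ := MT.sq_of_orderOf hs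
  obtain ⟨L', rfl⟩ := L.exists_rebase hss hs1
  set x' : ↥(centralizer ({L'.t} : Set G)) := ⟨x, mem_centralizer_singleton_iff.2 hsx.symm⟩ with hxd
  have hx5 : x ^ 5 = 1 := by rw [← hx, pow_orderOf_eq_one]
  have hx1 : x ≠ 1 := by
    rintro rfl
    rw [orderOf_one] at hx
    norm_num at hx
  have h5 : x' ^ 5 = 1 := Subtype.ext hx5
  have hd : r ∣ Nat.card ↥(centralizer ({x'} : Set ↥(centralizer ({L'.t} : Set G)))) := by
    let y' : ↥(centralizer ({L'.t} : Set G)) := ⟨y, mem_centralizer_singleton_iff.2 hys⟩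
    have hy' : y' ∈ centralizer ({x'} : Set ↥(centralizer ({L'.t} : Set G))) :=
      mem_centralizer_singleton_iff.2 (Subtype.ext hyx)
    have h1 : orderOf y' = r := (Subgroup.orderOf_mk y _).trans hy
    exact h1 ▸ Subgroup.orderOf_dvd_natCard _ hy'
  rcases five_cases L'.K h5 (fun e => hx1 (congrArg Subtype.val e)) with h | h
  · have h2 := hd.trans (card_cent_five L'.K h)
    rcases hr with rfl | rfl | rfl <;> revert h2 <;> decide
  · have h2 := hd.trans (card_cent_five_two L'.K h)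
    rcases hr with rfl | rfl | rfl <;> revert h2 <;> decide

/-- the case of a 5-cycle -/
theorem not_dvd_cycle (L : MT 11 G) {x : G} (hx : orderOf x = 5) (htx : L.t * x = x * L.t)
    (hy : (L.K.π (⟨x, mem_centralizer_singleton_iff.2 htx.symm⟩ : ↥(centralizer ({L.t} : Set G)))).cycleType = {5})
    {r : ℕ} (hr : r = 7 ∨ r = 11 ∨ r = 31) (hr2 : ¬ r ^ 2 ∣ Nat.card G) :
    ¬ r ∣ Nat.card ↥(centralizer ({x} : Set G)) := by
  intro hd
  have hrp : r.Prime := by rcases hr with rfl | rfl | rfl <;> norm_num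
  have hfr : Fact r.Prime := ⟨hrp⟩
  set y : ↥(centralizer ({L.t} : Set G)) := ⟨x, mem_centralizer_singleton_iff.2 htx.symm⟩ with hyd
  have hcyc : (L.K.π y).IsCycle := Perm.card_cycleType_eq_one.1 (by rw [hy]; rfl)
  have hx5 : x ^ 5 = 1 := by rw [← hx, pow_orderOf_eq_one]
  set X := centralizer ({x} : Set G) with hX
  let t' : ↥X := ⟨L.t, mem_centralizer_singleton_iff.2 htx⟩
  have ht' : orderOf t' = 2 := by rw [← Subgroup.orderOf_coe]; exact L.orderOf_t
  -- the cover of `A_6`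
  set S := L.K.sub (fun i => L.K.π y i = i) with hS
  have hSy : ∀ d ∈ S, d * y = y * d := fun d hd =>
    (cent_of_cycle L.K hcyc d).2 ⟨0, d, hd, by rw [pow_zero, one_mul]⟩
  let φ : ↥S →* ↥X :=
    { toFun := fun d => ⟨((d : ↥(centralizer ({L.t} : Set G))) : G),
        mem_centralizer_singleton_iff.2 (congrArg Subtype.val (hSy d d.2))⟩
      map_one' := rfl
      map_mul' := fun _ _ => rfl }
  have hφ : Function.Injective φ := by
    intro a b hab
    exact Subtype.ext (Subtype.ext (congrArg (fun z : ↥X => (z : G)) hab))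
  have htM : t' = φ ⟨L.K.z, L.K.z_mem_sub⟩ := Subtype.ext L.hz.symm
  have hperf : commutator ↥S = ⊤ := (Group.isPerfect_def (G := ↥S)).1 (quasisimple_sub L.K hy).1
  -- the elements of `C_X(t)`
  have hcent : ∀ g : ↥X, g * t' = t' * g → ∃ i : ℕ, ∃ d : ↥S,
      (g : G) = x ^ i * ((d : ↥(centralizer ({L.t} : Set G))) : G) := by
    intro g hg
    have hgt : (g : G) * L.t = L.t * g := congrArg Subtype.val hg
    have hgx : (g : G) * x = x * g := mem_centralizer_singleton_iff.1 g.2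
    obtain ⟨i, d, hd, e⟩ := (cent_of_cycle L.K hcyc ⟨(g : G), L.mem_iff.2 hgt⟩).1 (Subtype.ext hgx)
    exact ⟨i, ⟨d, hd⟩, congrArg Subtype.val e⟩
  -- the only involution
  have hone : ∀ s : ↥X, s * s = 1 → s * t' = t' * s → s = 1 ∨ s = t' := by
    intro s hs hst
    obtain ⟨i, d, e⟩ := hcent s hst
    have hdx : ((d : ↥(centralizer ({L.t} : Set G))) : G) * x = x * ((d : ↥(centralizer ({L.t} : Set G))) : G) :=
      congrArg Subtype.val (hSy d d.2)
    have hcm : Commute (x ^ i) ((d : ↥(centralizer ({L.t} : Set G))) : G) :=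
      ((show Commute ((d : ↥(centralizer ({L.t} : Set G))) : G) x from hdx).symm).pow_left i
    have h5 : (s : G) = ((d : ↥(centralizer ({L.t} : Set G))) : G) ^ 5 := by
      have h6 : (s : G) ^ 2 = 1 := by rw [pow_two]; exact congrArg Subtype.val hs
      have h7 : (s : G) ^ 5 = s := by
        rw [show (5 : ℕ) = 2 * 2 + 1 by norm_num, pow_succ, pow_mul, h6, one_pow, one_mul]
      rw [← h7, e, hcm.mul_pow, ← pow_mul, mul_comm i 5, pow_mul, hx5, one_pow, one_mul]
    have h8 : (d : ↥(centralizer ({L.t} : Set G))) ^ 5 ∈ S := S.pow_mem d.2 5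
    rcases eq_of_sub L.K hy h8 (Subtype.ext (by
      change ((d : ↥(centralizer ({L.t} : Set G))) : G) ^ 5 * ((d : ↥(centralizer ({L.t} : Set G))) : G) ^ 5 = 1
      rw [← h5]
      exact congrArg Subtype.val hs)) with h9 | h9
    · left
      apply Subtype.ext
      rw [h5]
      exact congrArg Subtype.val h9
    · right
      apply Subtype.ext
      rw [h5]
      exact (congrArg Subtype.val h9).trans L.hz
  obtain ⟨N, hN, hodd, hsup⟩ := TwoCov.exists_odd_sup ht' hone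
  -- `r` does not divide `|C_X(t)|`
  have hct : ¬ r ∣ Nat.card ↥(centralizer ({t'} : Set ↥X)) := by
    intro h1
    obtain ⟨g, hg⟩ := exists_prime_orderOf_dvd_card' r h1
    have hg' : orderOf ((g : ↥X) : G) = r := by rw [Subgroup.orderOf_coe, Subgroup.orderOf_coe]; exact hg
    refine not_inv L hr hx L.orderOf_t htx hg' ?_ (mem_centralizer_singleton_iff.1 (g : ↥X).2)
    exact congrArg Subtype.val (mem_centralizer_singleton_iff.1 g.2)
  have hq : Function.Surjective ((QuotientGroup.mk' N).comp (centralizer ({t'} : Set ↥X)).subtype) := by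
    intro a
    obtain ⟨a, rfl⟩ := QuotientGroup.mk_surjective a
    have h1 : a ∈ N ⊔ centralizer ({t'} : Set ↥X) := by rw [hsup]; exact mem_top a
    obtain ⟨n, hn, c, hc, rfl⟩ := Subgroup.mem_sup_of_normal_left.1 h1
    refine ⟨⟨c, hc⟩, ?_⟩
    change (QuotientGroup.mk c : ↥X ⧸ N) = QuotientGroup.mk (n * c)
    rw [QuotientGroup.mk_mul, (QuotientGroup.eq_one_iff n).2 hn, one_mul]
  have hrN : r ∣ Nat.card ↥N := by
    have h1 := Subgroup.card_eq_card_quotient_mul_card_subgroup N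
    rw [h1] at hd
    rcases (Nat.Prime.dvd_mul hrp).1 hd with h | h
    · exact absurd (h.trans (Subgroup.card_dvd_of_surjective _ hq)) hct
    · exact h
  -- a Sylow `r`-subgroup of `N`
  obtain ⟨P⟩ : Nonempty (Sylow r ↥N) := inferInstance
  have hPc : Nat.card ↥((P : Subgroup ↥N).map N.subtype) = r := by
    rw [Subgroup.card_map_of_injective (Subgroup.subtype_injective _)]
    obtain ⟨k, hk⟩ := P.isPGroup'.exists_card_eq
    have h1 : r ^ 1 ∣ Nat.card ↥(P : Subgroup ↥N) := P.pow_dvd_card_of_pow_dvd_card (by rwa [pow_one])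
    have h2 : k < 2 := by
      by_contra hcon
      apply hr2
      calc r ^ 2 ∣ r ^ k := pow_dvd_pow r (by omega)
        _ = Nat.card ↥(P : Subgroup ↥N) := hk.symm
        _ ∣ Nat.card ↥N := card_subgroup_dvd_card _
        _ ∣ Nat.card ↥X := card_subgroup_dvd_card _
        _ ∣ Nat.card G := card_subgroup_dvd_card _
    rw [hk] at h1 ⊢
    have h3 : 1 ≤ k := (Nat.pow_dvd_pow_iff_le_right hrp.one_lt).1 h1
    rw [show k = 1 by omega, pow_one]
  set R := (P : Subgroup ↥N).map N.subtype with hRd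
  have hfrat : normalizer (R : Set ↥X) ⊔ N = ⊤ := Sylow.normalizer_sup_eq_top P
  have hmapN : (normalizer (R : Set ↥X)).map (QuotientGroup.mk' N) = ⊤ := by
    rw [eq_top_iff]
    rintro a -
    obtain ⟨a, rfl⟩ := QuotientGroup.mk_surjective a
    have h1 : a ∈ normalizer (R : Set ↥X) ⊔ N := by rw [hfrat]; exact mem_top a
    obtain ⟨n, hn, c, hc, rfl⟩ := Subgroup.mem_sup_of_normal_right.1 h1
    refine ⟨n, hn, ?_⟩
    change (QuotientGroup.mk n : ↥X ⧸ N) = QuotientGroup.mk (n * c)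
    rw [QuotientGroup.mk_mul, (QuotientGroup.eq_one_iff c).2 hc, mul_one]
  have hcommN : ⁅normalizer (R : Set ↥X), normalizer (R : Set ↥X)⁆ ≤ centralizer (R : Set ↥X) := by
    rw [Subgroup.commutator_le]
    intro a ha b hb
    exact comm_cent_prime hrp hPc ha hb
  have hMC : ((QuotientGroup.mk' N).comp φ).range ≤ (centralizer (R : Set ↥X)).map (QuotientGroup.mk' N) := by
    rw [MonoidHom.range_eq_map, ← hperf, _root_.commutator_def, Subgroup.map_commutator]
    refine le_trans (Subgroup.commutator_mono (le_top : _ ≤ ⊤) (le_top : _ ≤ ⊤)) ?_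
    rw [← hmapN, ← Subgroup.map_commutator]
    exact Subgroup.map_mono hcommN
  obtain ⟨c, hc, hct'⟩ : ∃ c ∈ centralizer (R : Set ↥X), (QuotientGroup.mk c : ↥X ⧸ N) = QuotientGroup.mk t' := by
    have h1 : (QuotientGroup.mk t' : ↥X ⧸ N) ∈ ((QuotientGroup.mk' N).comp φ).range :=
      ⟨⟨L.K.z, L.K.z_mem_sub⟩, by rw [htM]; rfl⟩
    obtain ⟨c, hc, hc'⟩ := hMC h1
    exact ⟨c, hc, hc'⟩
  -- an involution of `C(R)`
  have hoq : orderOf (QuotientGroup.mk t' : ↥X ⧸ N) = 2 := by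
    have hf2 : Fact (Nat.Prime 2) := ⟨Nat.prime_two⟩
    apply orderOf_eq_prime
    · rw [← QuotientGroup.mk_pow, ← ht', pow_orderOf_eq_one]; rfl
    · intro h1
      have h2 : t' ∈ N := (QuotientGroup.eq_one_iff _).1 h1
      have h3 := Subgroup.orderOf_dvd_natCard N h2
      rw [ht'] at h3
      exact (Nat.not_even_iff_odd.2 hodd) (even_iff_two_dvd.2 h3)
  have h2c : 2 ∣ orderOf c := by
    rw [← hoq, ← hct']
    exact orderOf_map_dvd (QuotientGroup.mk' N) c
  obtain ⟨m, hm⟩ := h2c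
  have hm0 : m ≠ 0 := by
    rintro rfl
    have := orderOf_pos c
    omega
  have hos : orderOf (c ^ m) = 2 := by
    rw [orderOf_pow_of_dvd hm0 ⟨2, by rw [hm, mul_comm]⟩, hm, Nat.mul_div_cancel _ (Nat.pos_of_ne_zero hm0)]
  have hcm := (centralizer (R : Set ↥X)).pow_mem hc m
  obtain ⟨g, hg⟩ := exists_prime_orderOf_dvd_card' r (hPc ▸ dvd_rfl : r ∣ Nat.card ↥R)
  have hg' : orderOf ((g : ↥X) : G) = r := by rw [Subgroup.orderOf_coe, Subgroup.orderOf_coe]; exact hg
  have hos' : orderOf ((c ^ m : ↥X) : G) = 2 := by rw [Subgroup.orderOf_coe]; exact hos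
  refine not_inv L hr hx hos' (mem_centralizer_singleton_iff.1 (c ^ m : ↥X).2) hg' ?_
    (mem_centralizer_singleton_iff.1 (g : ↥X).2)
  have h1 := mem_centralizer_iff.1 hcm (g : ↥X) g.2
  exact congrArg Subtype.val h1

end

open Cfsg.Agent.Ly.Mat7 Cfsg.Agent.Ly.Upper Cfsg.Agent.Ly.Setup

theorem cz' : pw wc * pw wz = pw wz * pw wc := by
  have h := pw_eq cz
  rwa [pw_append, pw_append] at h

theorem dz' : pw wd * pw wz = pw wz * pw wd := by
  have h := pw_eq dz
  rwa [pw_append, pw_append] at h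

theorem cd' : pw wc * pw wd = pw wd * (pw wc * pw wz) := by
  have h := pw_eq cd
  rwa [pw_append, pw_append, pw_append] at h

theorem orderOf_z : orderOf (pw wz) = 5 := by
  have : Fact (Nat.Prime 5) := ⟨Nat.prime_five⟩
  exact orderOf_eq_prime z_five (pw_ne z_ne)

/-- 7, 11, 31 do not divide `|C(z)|` -/
theorem not_dvd_z {r : ℕ} (hr : r = 7 ∨ r = 11 ∨ r = 31) :
    ¬ r ∣ Nat.card ↥(centralizer ({pw wz} : Set Ly)) := by
  have hfin : Finite Ly := finite_ly
  have hf3 : Fact (Nat.Prime 3) := ⟨Nat.prime_three⟩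
  have hf2 : Fact (Nat.Prime 2) := ⟨Nat.prime_two⟩
  obtain ⟨L⟩ := TypeM.FactsLy.exists_mt_ly
  have ht2 : orderOf (pw wt) = 2 := orderOf_eq_prime (by
    have h := pw_eq t_pow
    rw [pw_append, pw_nil] at h
    rw [pow_two]; exact h) (pw_ne t_ne)
  have hw3 : orderOf (pw ww) = 3 := orderOf_eq_prime (by
    have h := pw_eq w_pow
    rw [pw_append, pw_append, pw_nil] at h
    rw [pow_succ, pow_two]; exact h) (pw_ne w_ne)
  have htz : pw wt * pw wz = pw wz * pw wt := by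
    have h := pw_eq tz
    rwa [pw_append, pw_append] at h
  have hwt : pw ww * pw wt = pw wt * pw ww := by
    have h := pw_eq wtw
    rwa [pw_append, pw_append] at h
  have hwz : pw ww * pw wz = pw wz * pw ww := by
    have h := pw_eq wzw
    rwa [pw_append, pw_append] at h
  obtain ⟨htt, ht1⟩ := MT.sq_of_orderOf ht2
  obtain ⟨L', hL'⟩ := L.exists_rebase htt ht1
  have hz1 : pw wz ≠ 1 := pw_ne z_ne
  have htx : L'.t * pw wz = pw wz * L'.t := by rw [hL']; exact htz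
  have h5 : (⟨pw wz, mem_centralizer_singleton_iff.2 htx.symm⟩ : ↥(centralizer ({L'.t} : Set Ly))) ^ 5 = 1 :=
    Subtype.ext z_five
  have hr2 : ¬ r ^ 2 ∣ Nat.card Ly := by
    rw [card_ly]
    rcases hr with rfl | rfl | rfl <;> norm_num
  rcases five_cases L'.K h5 (fun e => hz1 (congrArg Subtype.val e)) with h | h
  · exact not_dvd_cycle L' orderOf_z htx h hr hr2
  · exfalso
    have hwt' : pw ww * L'.t = L'.t * pw ww := by rw [hL']; exact hwt
    let w' : ↥(centralizer ({L'.t} : Set Ly)) := ⟨pw ww, mem_centralizer_singleton_iff.2 hwt'⟩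
    have hw' : w' ∈ centralizer ({(⟨pw wz, mem_centralizer_singleton_iff.2 htx.symm⟩ :
        ↥(centralizer ({L'.t} : Set Ly)))} : Set ↥(centralizer ({L'.t} : Set Ly))) :=
      mem_centralizer_singleton_iff.2 (Subtype.ext hwz)
    have h1 : orderOf w' = 3 := (Subgroup.orderOf_mk _ _).trans hw3
    have h2 := Subgroup.orderOf_dvd_natCard _ hw'
    rw [h1] at h2
    have h3 := h2.trans (card_cent_five_two L'.K h)
    revert h3
    decide

/-- the nonabelian subgroup of order 125 -/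
theorem exists_P : ∃ P : Subgroup Ly, IsPGroup 5 P ∧ pw wc ∈ P ∧ pw wd ∈ P := by
  have hf5 : Fact (Nat.Prime 5) := ⟨Nat.prime_five⟩
  have hp : ∀ {g : Ly}, g ^ 5 = 1 → IsPGroup 5 ↥(zpowers g) := by
    intro g hg
    have h1 := orderOf_dvd_of_pow_eq_one hg
    obtain ⟨k, -, hk⟩ := (Nat.dvd_prime_pow Nat.prime_five).1 (by rwa [← pow_one 5] at h1 : orderOf g ∣ 5 ^ 1)
    exact IsPGroup.of_card (n := k) (by rw [Nat.card_zpowers, hk])
  have hA : IsPGroup 5 ↥(zpowers (pw wc) ⊔ zpowers (pw wz)) := by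
    refine IsPGroup.to_sup_of_normal_right' (hp c_five) (hp z_five) ?_
    rw [zpowers_le, mem_normalizer_iff]
    intro x
    constructor
    · rintro ⟨k, rfl⟩
      refine ⟨k, ?_⟩
      have h1 : Commute (pw wc) (pw wz ^ k) := (show Commute (pw wc) (pw wz) from cz').zpow_right k
      change pw wz ^ k = pw wc * pw wz ^ k * (pw wc)⁻¹
      rw [h1.eq, mul_inv_cancel_right]
    · rintro ⟨k, hk⟩
      refine ⟨k, ?_⟩
      have h1 : Commute (pw wc) (pw wz ^ k) := (show Commute (pw wc) (pw wz) from cz').zpow_right k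
      have h2 : x = (pw wc)⁻¹ * (pw wz ^ k) * pw wc := by
        have h3 : pw wz ^ k = pw wc * x * (pw wc)⁻¹ := hk
        rw [h3]; group
      change pw wz ^ k = x
      rw [h2, mul_assoc, ← h1.eq, inv_mul_cancel_left]
  have key : ∀ g : Ly, (g * pw wc * g⁻¹ ∈ zpowers (pw wc) ⊔ zpowers (pw wz)) →
      (g * pw wz * g⁻¹ ∈ zpowers (pw wc) ⊔ zpowers (pw wz)) → ∀ x ∈ zpowers (pw wc) ⊔ zpowers (pw wz),
        g * x * g⁻¹ ∈ zpowers (pw wc) ⊔ zpowers (pw wz) := by
    intro g h1 h2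
    have h3 : zpowers (pw wc) ⊔ zpowers (pw wz) ≤
        (zpowers (pw wc) ⊔ zpowers (pw wz)).comap (MulAut.conj g).toMonoidHom := by
      rw [sup_le_iff, zpowers_le, zpowers_le]
      exact ⟨h1, h2⟩
    exact fun x hx => h3 hx
  have hc : pw wc ∈ zpowers (pw wc) ⊔ zpowers (pw wz) := mem_sup_left (mem_zpowers _)
  have hz : pw wz ∈ zpowers (pw wc) ⊔ zpowers (pw wz) := mem_sup_right (mem_zpowers _)
  have hd1 : pw wd * pw wc * (pw wd)⁻¹ = pw wc * (pw wz)⁻¹ := by
    have h1 : pw wd * pw wc = pw wc * pw wd * (pw wz)⁻¹ := by rw [cd']; group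
    have h2 : pw wd * (pw wz)⁻¹ = (pw wz)⁻¹ * pw wd := ((show Commute (pw wd) (pw wz) from dz').inv_right).eq
    rw [h1, mul_assoc (pw wc), h2]
    group
  have hd2 : pw wd * pw wz * (pw wd)⁻¹ = pw wz := by rw [dz', mul_inv_cancel_right]
  have hd3 : (pw wd)⁻¹ * pw wc * (pw wd)⁻¹⁻¹ = pw wc * pw wz := by
    rw [inv_inv, mul_assoc, cd', inv_mul_cancel_left]
  have hd4 : (pw wd)⁻¹ * pw wz * (pw wd)⁻¹⁻¹ = pw wz := by
    rw [inv_inv, mul_assoc, ← dz', inv_mul_cancel_left]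
  have hn : zpowers (pw wd) ≤ normalizer ((zpowers (pw wc) ⊔ zpowers (pw wz) : Subgroup Ly) : Set Ly) := by
    rw [zpowers_le, mem_normalizer_iff]
    intro x
    refine ⟨key (pw wd) (by rw [hd1]; exact mul_mem hc (inv_mem hz)) (by rw [hd2]; exact hz) x, fun hx => ?_⟩
    have h1 := key (pw wd)⁻¹ (by rw [hd3]; exact mul_mem hc hz) (by rw [hd4]; exact hz) _ hx
    have h2 : (pw wd)⁻¹ * (pw wd * x * (pw wd)⁻¹) * (pw wd)⁻¹⁻¹ = x := by group
    rwa [h2] at h1
  exact ⟨zpowers (pw wd) ⊔ (zpowers (pw wc) ⊔ zpowers (pw wz)), IsPGroup.to_sup_of_normal_right' (hp d_five) hA hn,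
    mem_sup_right hc, mem_sup_left (mem_zpowers _)⟩

/-- conjugates of `c`, `d` in a Sylow 5-subgroup -/
theorem exists_cd {S : Subgroup Ly} (hS : IsPGroup 5 S) (hSi : ¬ 5 ∣ S.index) :
    ∃ g a b : Ly, a ∈ S ∧ b ∈ S ∧ ⁅a, b⁆ = g * pw wz * g⁻¹ := by
  have hfin : Finite Ly := finite_ly
  have hf5 : Fact (Nat.Prime 5) := ⟨Nat.prime_five⟩
  obtain ⟨P, hP, hc, hd⟩ := exists_P
  obtain ⟨Q, hQ⟩ := hP.exists_le_sylow
  obtain ⟨g, hg⟩ := MulAction.exists_smul_eq Ly Q (hS.toSylow hSi)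
  have h1 : ∀ x ∈ P, g * x * g⁻¹ ∈ S := by
    intro x hx
    have h2 : (Q : Subgroup Ly).map (MulAut.conj g).toMonoidHom = S := congrArg (fun Q : Sylow 5 Ly => (Q : Subgroup Ly)) hg
    rw [← h2]
    exact ⟨x, hQ hx, rfl⟩
  refine ⟨g, g * (pw wc)⁻¹ * g⁻¹, g * (pw wd)⁻¹ * g⁻¹, h1 _ (inv_mem hc), h1 _ (inv_mem hd), ?_⟩
  have h2 : (pw wc)⁻¹ * (pw wd)⁻¹ * pw wc * pw wd = pw wz := by
    rw [mul_assoc, cd']; group
  rw [← h2, commutatorElement_def]
  group

theorem five_t {t : ℕ} (ht : t = 7 ∨ t = 11 ∨ t = 31) : Inv1 5 t Ly := by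
  have hfin : Finite Ly := finite_ly
  have hf5 : Fact (Nat.Prime 5) := ⟨Nat.prime_five⟩
  have htp : t.Prime := by rcases ht with rfl | rfl | rfl <;> norm_num
  have hft : Fact t.Prime := ⟨htp⟩
  have ht2 : ¬ t ^ (1 + 1) ∣ Nat.card Ly := by
    rw [card_ly]
    rcases ht with rfl | rfl | rfl <;> norm_num
  intro S hS hSi R hR hn
  by_contra hne
  obtain ⟨k, hk, hRk⟩ := card_pgroup ht2 hR
  have h9 : ¬ 5 ^ 2 ∣ Nat.card R - 1 := by
    rw [hRk]
    rcases Nat.le_one_iff_eq_zero_or_eq_one.1 hk with rfl | rfl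
    · rw [pow_zero] at hRk
      exact absurd (Subgroup.card_eq_one.1 hRk) hne
    · rcases ht with rfl | rfl | rfl <;> norm_num
  obtain ⟨R1, hle, hne1, hn1, hc1⟩ := exists_comm_cent hS hn h9
  obtain ⟨g, a, b, ha, hb, hab⟩ := exists_cd hS hSi
  -- an element of order `t` of `R1`
  obtain ⟨j, hj⟩ := (hR.to_le hle).exists_card_eq
  have hj0 : j ≠ 0 := by
    rintro rfl
    rw [pow_zero] at hj
    exact hne1 (Subgroup.card_eq_one.1 hj)
  obtain ⟨y, hy⟩ := exists_prime_orderOf_dvd_card' t (hj ▸ dvd_pow_self t hj0 : t ∣ Nat.card ↥R1)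
  have h1 := hc1 a ha b hb y y.2
  rw [hab] at h1
  have h2 : g⁻¹ * (y : Ly) * g ∈ centralizer ({pw wz} : Set Ly) := by
    rw [mem_centralizer_singleton_iff]
    calc g⁻¹ * (y : Ly) * g * pw wz = g⁻¹ * ((y : Ly) * (g * pw wz * g⁻¹)) * g := by group
      _ = g⁻¹ * (g * pw wz * g⁻¹ * (y : Ly)) * g := by rw [h1]
      _ = pw wz * (g⁻¹ * (y : Ly) * g) := by group
  have h3 : orderOf (g⁻¹ * (y : Ly) * g) = t := by
    have h4 : orderOf (MulAut.conj g⁻¹ (y : Ly)) = orderOf (y : Ly) := MulEquiv.orderOf_eq _ _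
    rw [MulAut.conj_apply, inv_inv] at h4
    rw [h4, Subgroup.orderOf_coe, hy]
  exact not_dvd_z ht (h3 ▸ Subgroup.orderOf_dvd_natCard _ h2)

theorem three_five : Inv1 3 5 Ly := by
  have hfin : Finite Ly := finite_ly
  have hf3 : Fact (Nat.Prime 3) := ⟨Nat.prime_three⟩
  have hf5 : Fact (Nat.Prime 5) := ⟨Nat.prime_five⟩
  have h57 : ¬ 5 ^ (6 + 1) ∣ Nat.card Ly := by rw [card_ly]; norm_num
  -- the case of a small subgroup
  have small : ∀ S R : Subgroup Ly, IsPGroup 3 S → ¬ 3 ∣ S.index → IsPGroup 5 R → S ≤ normalizer (R : Set Ly) →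
      ¬ 5 ^ 6 ∣ Nat.card R → R = ⊥ := by
    intro S R hS hSi hR hn h6
    by_contra hne
    obtain ⟨k, hk, hRk⟩ := card_pgroup h57 hR
    have hk6 : k < 6 := by
      by_contra hcon
      exact h6 (hRk ▸ pow_dvd_pow 5 (by omega))
    have hk0 : k ≠ 0 := by
      rintro rfl
      rw [pow_zero] at hRk
      exact hne (Subgroup.card_eq_one.1 hRk)
    have h9 : ¬ 3 ^ 2 ∣ Nat.card R - 1 := by
      rw [hRk]
      interval_cases k <;> first | omega | norm_num
    obtain ⟨R1, hle, hne1, hn1, hc1⟩ := exists_comm_cent hS hn h9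
    exact hne1 (red_ly (Or.inl rfl) hS hSi (hR.to_le hle) hn1 hc1)
  intro S hS hSi R hR hn
  by_cases h6 : 5 ^ 6 ∣ Nat.card R
  swap
  · exact small S R hS hSi hR hn h6
  exfalso
  obtain ⟨k, hk, hRk⟩ := card_pgroup h57 hR
  have hk6 : k = 6 := by
    rw [hRk] at h6
    have := (Nat.pow_dvd_pow_iff_le_right (by norm_num : 1 < 5)).1 h6
    omega
  subst hk6
  have hRi : ¬ 5 ∣ R.index := by
    intro hd
    apply h57
    rw [← R.card_mul_index, hRk, pow_succ]
    exact Nat.mul_dvd_mul_left _ hd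
  -- the centre
  have hZn : S ≤ normalizer ((R ⊓ centralizer (R : Set Ly) : Subgroup Ly) : Set Ly) := by
    have key : ∀ g ∈ S, ∀ x ∈ R ⊓ centralizer (R : Set Ly), g * x * g⁻¹ ∈ R ⊓ centralizer (R : Set Ly) := by
      rintro g hg x ⟨hx1, hx2⟩
      refine ⟨(mem_normalizer_iff.1 (hn hg) x).1 hx1, ?_⟩
      change g * x * g⁻¹ ∈ centralizer (R : Set Ly)
      rw [mem_centralizer_iff]
      intro y hy
      have h1 : g⁻¹ * y * g ∈ R := by
        have := (mem_normalizer_iff.1 (inv_mem (hn hg)) y).1 hy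
        rwa [inv_inv] at this
      have h2 := mem_centralizer_iff.1 (show x ∈ centralizer (R : Set Ly) from hx2) _ h1
      calc y * (g * x * g⁻¹) = g * ((g⁻¹ * y * g) * x) * g⁻¹ := by group
        _ = g * (x * (g⁻¹ * y * g)) * g⁻¹ := by rw [h2]
        _ = g * x * g⁻¹ * y := by group
    intro g hg
    rw [mem_normalizer_iff]
    intro x
    refine ⟨key g hg x, fun hx => ?_⟩
    have h1 := key g⁻¹ (S.inv_mem hg) _ hx
    have h2 : g⁻¹ * (g * x * g⁻¹) * g⁻¹⁻¹ = x := by group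
    rwa [h2] at h1
  have hZ : R ⊓ centralizer (R : Set Ly) = ⊥ := by
    refine small S _ hS hSi (hR.to_le inf_le_left) hZn ?_
    intro hd
    have h1 : Nat.card ↥(R ⊓ centralizer (R : Set Ly)) ∣ Nat.card ↥R := Subgroup.card_dvd_of_le inf_le_left
    have h2 : R ⊓ centralizer (R : Set Ly) = R := by
      apply Subgroup.eq_of_le_of_card_ge inf_le_left
      rw [hRk]
      exact Nat.le_of_dvd Nat.card_pos hd
    obtain ⟨g, a, b, ha, hb, hab⟩ := exists_cd hR hRi
    have h3 : a * b = b * a := by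
      have h4 : b ∈ R ⊓ centralizer (R : Set Ly) := by rw [h2]; exact hb
      exact mem_centralizer_iff.1 h4.2 a ha
    have h5 : ⁅a, b⁆ = 1 := commutatorElement_eq_one_iff_mul_comm.2 h3
    rw [h5] at hab
    have h6 : pw wz = 1 := by
      have : pw wz = g⁻¹ * (g * pw wz * g⁻¹) * g := by group
      rw [this, ← hab]; group
    exact pw_ne z_ne h6
  have hnt : Nontrivial ↥R := by
    rw [← Finite.one_lt_card_iff_nontrivial, hRk]
    norm_num
  have hcn := hR.center_nontrivial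
  obtain ⟨x, hx, hx1⟩ := (Subgroup.nontrivial_iff_exists_ne_one _).1 hcn
  have h1 : (x : Ly) ∈ R ⊓ centralizer (R : Set Ly) := by
    refine ⟨x.2, mem_centralizer_iff.2 fun y hy => ?_⟩
    exact congrArg Subtype.val (mem_center_iff.1 hx ⟨y, hy⟩)
  rw [hZ, mem_bot] at h1
  exact hx1 (Subtype.ext h1)

theorem tab {G : Type*} [Group G] (e : G ≃* Ly) :
    ∀ x ∈ [(3, 5), (3, 7), (3, 11), (3, 31), (5, 7), (5, 11), (5, 31)], Inv1 x.1 x.2 G := by
  intro x hx
  simp only [List.mem_cons, List.not_mem_nil, or_false] at hx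
  rcases hx with rfl | rfl | rfl | rfl | rfl | rfl | rfl
  · exact Inv1.of_equiv e three_five
  · exact Inv1.of_equiv e (three_t (by norm_num))
  · exact Inv1.of_equiv e (three_t (by norm_num))
  · exact Inv1.of_equiv e (three_t (by norm_num))
  · exact Inv1.of_equiv e (five_t (by norm_num))
  · exact Inv1.of_equiv e (five_t (by norm_num))
  · exact Inv1.of_equiv e (five_t (by norm_num))

end Cfsg.Agent.H171.Odd.Ly
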