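import Cfsg.Agent.H171.Odd.LyB

/-!
# The row `Ly` (helper171)
-/

set_option autoImplicit false
set_option maxRecDepth 100000

namespace Cfsg.Agent.H171.Odd

open Cfsg Subgroup Cfsg.Agent.H553.OddHall

universe u

variable {G : Type u} [Group G] [Finite G] [IsSimpleGroup G]

theorem oddC_ly (h : Spor.IsoLy G) (hnc : ¬ IsMulCommutative G) (hind : OddInd G) : OddC G := by
  obtain ⟨e⟩ := h
  have hc : Nat.card G = 51765179004000000 := by
    rw [Nat.card_congr e.toEquiv, Ly.card_ly]
  refine oddC_of_cert hnc hind hc (L := [(3, 7), (5, 6), (7, 1), (11, 1), (31, 1), (37, 1), (67, 1)])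
    (T := [(3, 5), (3, 7), (3, 11), (3, 31), (5, 7), (5, 11), (5, 31)])
    (by simp only [List.mem_cons, List.not_mem_nil, or_false]; rintro x (rfl | rfl | rfl | rfl | rfl | rfl | rfl) <;> norm_num)
    (Ly.tab e) (by decide +kernel)

end Cfsg.Agent.H171.Odd
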